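import Groth.Agent.DescLocus.Forms
import Groth.Agent.SeesawGen.Locus

/-!
# The descent locus near a point of an affine base
-/

set_option autoImplicit false
attribute [-instance] CategoryTheory.catToReflQuiver
set_option linter.style.haveILetI false
set_option backward.isDefEq.respectTransparency false
set_option backward.isDefEq.respectTransparency.types false
set_option maxHeartbeats 2000000

universe u

open CategoryTheory CategoryTheory.Limits AlgebraicGeometry TopologicalSpace Opposite

noncomputable section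

namespace Groth.Agent.DescLocus

open Groth.Agent.H23.Frame

variable {A : Type u} [CommRing A] {X : Scheme.{u}} {π : X ⟶ Spec (CommRingCat.of A)} {E : X.Modules}

/-- Sections of the structure sheaf after every change of base come from the base. -/
def HasΓ (π : X ⟶ Spec (CommRingCat.of A)) : Prop :=
  ∀ (B : Type u) [CommRing B] [Algebra A B] (X' : Scheme.{u}) (φ : X' ⟶ X) (pB : X' ⟶ Spec (CommRingCat.of B)),
    IsPullback φ pB π (Spec.map (CommRingCat.ofHom (algebraMap A B))) → Function.Bijective pB.appTop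

/-- Every point has a frame of the given size. -/
def HasRank (E : X.Modules) (n : ℕ) : Prop :=
  ∀ x : X, ∃ (U : X.Opens) (e : Fin n → Γ(E, U)), x ∈ U ∧ IsFrame E e

/-- Freeness over an algebra kills all the relations between the generators. -/
theorem kill_relation (R : SecRep π E) (hΓ : HasΓ π) (hq : Coh.IsQCoh E) {n : ℕ} (hrk : HasRank E n)
    {q : Fin n → R.Q} (hspan : Submodule.span A (Set.range q) = ⊤) {B : Type u} [CommRing B] [Algebra A B]
    (hF : FreeP E (pullback.fst π (Spec.map (CommRingCat.ofHom (algebraMap A B))))) (c : Fin n → A)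
    (hc : ∑ j, c j • q j = 0) (j : Fin n) : algebraMap A B (c j) = 0 := by
  rcases subsingleton_or_nontrivial B with hsub | hnt
  · exact Subsingleton.elim _ _
  let φ := pullback.fst π (Spec.map (CommRingCat.ofHom (algebraMap A B)))
  let pB := pullback.snd π (Spec.map (CommRingCat.ofHom (algebraMap A B)))
  have hpb : IsPullback φ pB π (Spec.map (CommRingCat.ofHom (algebraMap A B))) := IsPullback.of_hasPullback _ _
  obtain ⟨e, he⟩ := exists_frame_of_freeP (pB := pB) (hΓ B _ φ pB hpb) hq hrk hF
  let ψ : Fin n → (R.Q →ₗ[A] B) := fun i => (R.ε B _ φ pB hpb).symm (e i)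
  let M : Matrix (Fin n) (Fin n) B := Matrix.of fun i k => ψ i (q k)
  have hdet : IsUnit M.det := by
    by_contra hnu
    obtain ⟨p, hp, hle⟩ := Ideal.exists_le_maximal _ (mt Ideal.span_singleton_eq_top.1 hnu)
    let K := p.ResidueField
    have hbK : algebraMap B K M.det = 0 :=
      Ideal.algebraMap_residueField_eq_zero.2 (hle (Ideal.mem_span_singleton_self _))
    let g : B →ₐ[A] K := IsScalarTower.toAlgHom A B K
    let sK := Spec.map (CommRingCat.ofHom (algebraMap B K))
    let t := pullback.fst pB sK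
    let pK := pullback.snd pB sK
    have hcomp : sK ≫ Spec.map (CommRingCat.ofHom (algebraMap A B)) =
        Spec.map (CommRingCat.ofHom (algebraMap A K)) := by
      rw [← Spec.map_comp, ← CommRingCat.ofHom_comp, ← IsScalarTower.algebraMap_eq]
    have hpbK : IsPullback (t ≫ φ) pK π (Spec.map (CommRingCat.ofHom (algebraMap A K))) :=
      hcomp ▸ (IsPullback.of_hasPullback pB sK).paste_horiz hpb
    obtain ⟨i, hi⟩ := R.nat B K g _ _ t φ (t ≫ φ) pB pK hpb hpbK rfl pullback.condition
    have he' : IsFrame ((Scheme.Modules.pullback (t ≫ φ)).obj E) (U := (⊤ : (pullback pB sK).Opens))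
        fun k => i.hom.app ⊤ (InvX.pullElt t (e k)) :=
      GrpOmega.isFrame_map i (U := ⊤) (isFrame_pullElt t (QCoh.isQCoh_pullback φ hq) he)
    have hsym : ∀ k, (R.ε K _ (t ≫ φ) pK hpbK).symm (i.hom.app ⊤ (InvX.pullElt t (e k))) = g.toLinearMap ∘ₗ ψ k :=
      fun k => by
        rw [AddEquiv.symm_apply_eq, hi]
        exact congrArg (fun s => i.hom.app ⊤ (InvX.pullElt t s)) ((R.ε B _ φ pB hpb).apply_symm_apply _).symm
    obtain ⟨-, hind⟩ := R.forms_basis hpbK he' (hΓ K _ _ pK hpbK)
    have hdet0 : (M.map (algebraMap B K)).det = 0 := by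
      have h := RingHom.map_det (algebraMap B K) M
      rw [hbK] at h
      exact h.symm
    obtain ⟨a, ha, hav⟩ := Matrix.exists_vecMul_eq_zero_iff.2 hdet0
    refine ha (hind a ?_)
    refine LinearMap.ext_on_range hspan fun k => ?_
    simp only [hsym]
    refine (LinearMap.sum_apply _ _ _).trans ?_
    exact congrFun hav k
  have hMc : Matrix.mulVec M (fun k => algebraMap A B (c k)) = 0 := funext fun i => by
    have h := congrArg (ψ i) hc
    rw [map_sum, map_zero] at h
    refine Eq.trans ?_ h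
    show ∑ k, M i k * algebraMap A B (c k) = _
    refine Finset.sum_congr rfl fun k _ => ?_
    rw [map_smul, Algebra.smul_def, mul_comm]
    rfl
  have hinj := Matrix.mulVec_injective_of_isUnit ((Matrix.isUnit_iff_isUnit_det M).2 hdet)
  exact congrFun (hinj (hMc.trans (Matrix.mulVec_zero M).symm)) j

/-- With generators in number equal to the rank, the locus is cut out by the relations. -/
theorem exists_ideal (R : SecRep π E) (hΓ : HasΓ π) (hcl : ∀ (B : Type u) [CommRing B] [Algebra A B],
      IsClosedMap (pullback.snd π (Spec.map (CommRingCat.ofHom (algebraMap A B)))))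
    (hq : Coh.IsQCoh E) {n : ℕ} (hrk : HasRank E n) {q : Fin n → R.Q} (hspan : Submodule.span A (Set.range q) = ⊤)
    {K : Type u} [Field K] [Algebra A K]
    (hK : FreeP E (pullback.fst π (Spec.map (CommRingCat.ofHom (algebraMap A K))))) :
    ∃ J : Ideal A, J.FG ∧
      (∀ (B : Type u) [CommRing B] [Algebra A B],
        FreeP E (pullback.fst π (Spec.map (CommRingCat.ofHom (algebraMap A B)))) → J ≤ RingHom.ker (algebraMap A B)) ∧
      ∃ g : A, algebraMap A K g ≠ 0 ∧ ∀ (B : Type u) [CommRing B] [Algebra A B], IsUnit (algebraMap A B g) →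
        J ≤ RingHom.ker (algebraMap A B) → FreeP E (pullback.fst π (Spec.map (CommRingCat.ofHom (algebraMap A B)))) := by
  classical
  haveI := R.fp
  let L : (Fin n → A) →ₗ[A] R.Q := Fintype.linearCombination A q
  have hL : Function.Surjective L := by
    rw [← LinearMap.range_eq_top, ← hspan]
    exact Fintype.range_linearCombination A q
  let J : Ideal A := Finset.univ.sup fun i : Fin n => (LinearMap.ker L).map (LinearMap.proj i)
  have hker := Module.FinitePresentation.fg_ker L hL
  have hkill : ∀ (B : Type u) [CommRing B] [Algebra A B],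
      FreeP E (pullback.fst π (Spec.map (CommRingCat.ofHom (algebraMap A B)))) → J ≤ RingHom.ker (algebraMap A B) := by
    intro B _ _ hF
    refine Finset.sup_le fun i _ => ?_
    rintro a ⟨c, hc, rfl⟩
    exact RingHom.mem_ker.2 (kill_relation R hΓ hq hrk hspan hF c
      ((Fintype.linearCombination_apply A q c).symm.trans (LinearMap.mem_ker.1 hc)) i)
  refine ⟨J, Finset.sup_induction Submodule.fg_bot (fun _ ha _ hb => Submodule.FG.sup ha hb) (fun i _ => hker.map _), hkill, ?_⟩
  -- dual forms over the quotient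
  have hδ : ∀ i : Fin n, ∃ δ : R.Q →ₗ[A] A ⧸ J, ∀ k, δ (q k) = if k = i then 1 else 0 := fun i => by
    let p : (Fin n → A) →ₗ[A] A ⧸ J := (Ideal.Quotient.mkₐ A J).toLinearMap ∘ₗ LinearMap.proj i
    have hp : LinearMap.ker L ≤ LinearMap.ker p := fun c hc => LinearMap.mem_ker.2
      (Ideal.Quotient.eq_zero_iff_mem.2 (Finset.le_sup (f := fun i : Fin n => (LinearMap.ker L).map (LinearMap.proj i))
        (Finset.mem_univ i) ⟨c, hc, rfl⟩))
    refine ⟨(LinearMap.ker L).liftQ p hp ∘ₗ (L.quotKerEquivOfSurjective hL).symm.toLinearMap, fun k => ?_⟩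
    have hk : (L.quotKerEquivOfSurjective hL).symm (q k) = Submodule.Quotient.mk (Pi.single k 1) := by
      rw [LinearEquiv.symm_apply_eq]
      show q k = L (Pi.single k 1)
      rw [Fintype.linearCombination_apply_single, one_smul]
    show (LinearMap.ker L).liftQ p hp ((L.quotKerEquivOfSurjective hL).symm (q k)) = _
    rw [hk]
    show Ideal.Quotient.mk J ((Pi.single k 1 : Fin n → A) i) = _
    rcases eq_or_ne k i with rfl | hne
    · rw [Pi.single_eq_same, if_pos rfl, map_one]
    · rw [Pi.single_eq_of_ne hne.symm, if_neg hne, map_zero]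
  choose δ hδ using hδ
  -- the point lies on the quotient
  let B₀ := A ⧸ J
  let ι : B₀ →ₐ[A] K := Ideal.Quotient.liftₐ J (Algebra.ofId A K) fun a ha => RingHom.mem_ker.1 (hkill K hK ha)
  let φ₀ := pullback.fst π (Spec.map (CommRingCat.ofHom (algebraMap A B₀)))
  let p₀ := pullback.snd π (Spec.map (CommRingCat.ofHom (algebraMap A B₀)))
  have hpb₀ : IsPullback φ₀ p₀ π (Spec.map (CommRingCat.ofHom (algebraMap A B₀))) := IsPullback.of_hasPullback _ _
  let sK := Spec.map (CommRingCat.ofHom ι.toRingHom)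
  let t := pullback.fst p₀ sK
  let pK := pullback.snd p₀ sK
  have hcomp : sK ≫ Spec.map (CommRingCat.ofHom (algebraMap A B₀)) =
      Spec.map (CommRingCat.ofHom (algebraMap A K)) := by
    rw [← Spec.map_comp, ← CommRingCat.ofHom_comp, show ι.toRingHom.comp (algebraMap A B₀) = algebraMap A K from RingHom.ext ι.commutes]
  have hpbK : IsPullback (t ≫ φ₀) pK π (Spec.map (CommRingCat.ofHom (algebraMap A K))) :=
    hcomp ▸ (IsPullback.of_hasPullback p₀ sK).paste_horiz hpb₀
  obtain ⟨i, hi⟩ := R.nat B₀ K ι _ _ t φ₀ (t ≫ φ₀) p₀ pK hpb₀ hpbK rfl pullback.condition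
  obtain ⟨e, he⟩ := exists_frame_of_freeP (pB := pK) (hΓ K _ _ pK hpbK) hq hrk (freeP_of_isPullback hpbK hK)
  let εK := R.ε K _ (t ≫ φ₀) pK hpbK
  let σ : Fin n → Γ((Scheme.Modules.pullback (t ≫ φ₀)).obj E, (⊤ : (pullback p₀ sK).Opens)) :=
    fun k => εK (ι.toLinearMap ∘ₗ δ k)
  have hψ : ∀ f : R.Q →ₗ[A] K, f = ∑ k, LinearMap.mulLeft A (f (q k)) ∘ₗ (ι.toLinearMap ∘ₗ δ k) := fun f => by
    refine LinearMap.ext_on_range hspan fun l => ?_
    refine Eq.trans ?_ (LinearMap.sum_apply _ _ _).symm
    simp only [LinearMap.comp_apply, LinearMap.mulLeft_apply, AlgHom.toLinearMap_apply]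
    rw [Finset.sum_eq_single l (fun k _ hk => by rw [hδ, if_neg hk.symm, map_zero, mul_zero])
      (fun h => absurd (Finset.mem_univ l) h), hδ, if_pos rfl, map_one, mul_one]
  have hσ : IsFrame _ σ := by
    choose C hC using fun k => (he ⊤ le_rfl).2 (σ k)
    have hs : ∀ k, σ k = ∑ l, (Matrix.of C) k l • e l := fun k => by
      rw [← hC k]
      exact Finset.sum_congr rfl fun l _ => congrArg _ (QCoh.map_id' _ _)
    refine isFrame_of_matrix he hs (isUnit_det_of_gen he hs fun k => ⟨fun l => Coh.toGlobal pK ((εK.symm (e k)) (q l)), ?_⟩)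
    exact (R.ε_sum hpbK _ _).symm.trans ((congrArg εK (hψ (εK.symm (e k))).symm).trans (εK.apply_symm_apply _))
  let s : Fin n → Γ((Scheme.Modules.pullback φ₀).obj E,
      (⊤ : (pullback π (Spec.map (CommRingCat.ofHom (algebraMap A B₀)))).Opens)) :=
    fun k => R.ε B₀ _ φ₀ p₀ hpb₀ (δ k)
  have hs : IsFrame ((Scheme.Modules.pullback t).obj ((Scheme.Modules.pullback φ₀).obj E))
      (U := t ⁻¹ᵁ ⊤) fun k => InvX.pullElt t (s k) := by
    refine (congrArg (IsFrame _) (funext fun k => ?_)).mp (GrpOmega.isFrame_map i.symm (U := ⊤) hσ)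
    show i.inv.app ⊤ (εK (ι.toLinearMap ∘ₗ δ k)) = _
    rw [show εK (ι.toLinearMap ∘ₗ δ k) = _ from hi (δ k)]
    exact congr(($(i.hom_inv_id)).app ⊤ _)
  let x₀ : Spec (CommRingCat.of B₀) := sK (IsLocalRing.closedPoint K)
  obtain ⟨V, hxV, hV⟩ := exists_frame_over p₀ (hcl B₀) s x₀ fun x hx => by
    obtain ⟨z, hz, -⟩ := Scheme.Pullback.exists_preimage_pullback (f := p₀) (g := sK) x (IsLocalRing.closedPoint K) hx
    obtain ⟨U, e₀, hU, he₀⟩ := hrk (φ₀ (t z))
    obtain rfl : t z = x := hz
    exact exists_nhd_frame (QCoh.isQCoh_pullback φ₀ hq) t s hs z hU (isFrame_pullElt φ₀ hq he₀)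
  obtain ⟨_, ⟨g₀, rfl⟩, hg₀, hgV⟩ :=
    PrimeSpectrum.isTopologicalBasis_basic_opens.exists_subset_of_mem_open hxV V.isOpen
  obtain ⟨g, rfl⟩ := Ideal.Quotient.mk_surjective g₀
  refine ⟨g, fun h => hg₀ ?_, fun B _ _ hu hJ => ?_⟩
  · show ι (Ideal.Quotient.mk J g) ∈ IsLocalRing.maximalIdeal K
    rw [show ι (Ideal.Quotient.mk J g) = algebraMap A K g from rfl, h]
    exact zero_mem _
  have hF : FreeP E (pullback.fst π (V.ι ≫ Spec.map (CommRingCat.ofHom (algebraMap A B₀)))) :=
    freeP_of_frame _ hV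
  let ρ : B₀ →+* B := Ideal.Quotient.lift J (algebraMap A B) fun a ha => RingHom.mem_ker.1 (hJ ha)
  have hr : Set.range (Spec.map (CommRingCat.ofHom ρ)) ⊆ Set.range V.ι := by
    rw [Scheme.Opens.range_ι]
    rintro _ ⟨w, rfl⟩
    refine hgV ?_
    show ρ (Ideal.Quotient.mk J g) ∉ w.asIdeal
    exact fun h => w.isPrime.ne_top (Ideal.eq_top_of_isUnit_mem _ h hu)
  refine hF.base (IsOpenImmersion.lift V.ι _ hr) ?_
  rw [IsOpenImmersion.lift_fac_assoc, ← Spec.map_comp, ← CommRingCat.ofHom_comp]
  rfl

/-- Near a point where the module is free, the rank many generators. -/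
theorem exists_generators (R : SecRep π E) (hΓ : HasΓ π) (hq : Coh.IsQCoh E) {n : ℕ} (hrk : HasRank E n)
    {K : Type u} [Field K] [Algebra A K]
    (hK : FreeP E (pullback.fst π (Spec.map (CommRingCat.ofHom (algebraMap A K))))) :
    ∃ (g : A) (q : Fin n → R.Q), algebraMap A K g ≠ 0 ∧ ∀ x : R.Q, g • x ∈ Submodule.span A (Set.range q) := by
  classical
  haveI := R.fp
  let φ := pullback.fst π (Spec.map (CommRingCat.ofHom (algebraMap A K)))
  let pK := pullback.snd π (Spec.map (CommRingCat.ofHom (algebraMap A K)))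
  have hpb : IsPullback φ pK π (Spec.map (CommRingCat.ofHom (algebraMap A K))) := IsPullback.of_hasPullback _ _
  obtain ⟨e, he⟩ := exists_frame_of_freeP (pB := pK) (hΓ K _ φ pK hpb) hq hrk hK
  obtain ⟨hgen, hind⟩ := R.forms_basis hpb he (hΓ K _ φ pK hpb)
  let ψ : Fin n → (R.Q →ₗ[A] K) := fun i => (R.ε K _ φ pK hpb).symm (e i)
  let v : R.Q → (Fin n → K) := fun x i => ψ i x
  have hv : Submodule.span K (Set.range v) = ⊤ := by
    by_contra hne
    obtain ⟨f, hf0, hf⟩ := Submodule.exists_le_ker_of_lt_top _ (Ne.lt_top hne)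
    refine hf0 (LinearMap.pi_ext' fun i => LinearMap.ext_ring ?_)
    have h0 := hind (fun i => f (Pi.single i 1)) (LinearMap.ext fun x => ?_)
    · exact congrFun h0 i
    refine (LinearMap.sum_apply _ _ _).trans ?_
    have h1 : f (v x) = 0 := hf (Submodule.subset_span ⟨x, rfl⟩)
    rw [← (Pi.basisFun K (Fin n)).sum_repr (v x), map_sum] at h1
    refine Eq.trans (Finset.sum_congr rfl fun i _ => ?_) h1
    rw [map_smul, smul_eq_mul, Pi.basisFun_repr, Pi.basisFun_apply, mul_comm]
    rfl
  obtain ⟨b, hb, hspanb, hli⟩ := exists_linearIndependent K (Set.range v)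
  let bb : Module.Basis b K (Fin n → K) :=
    Module.Basis.mk hli (by rw [Subtype.range_coe, hspanb, hv])
  haveI : Finite b := Module.Finite.finite_basis bb
  haveI := Fintype.ofFinite b
  let ν : Fin n ≃ b := (Fintype.equivFinOfCardEq (by
    rw [← Module.finrank_eq_card_basis bb, Module.finrank_fin_fun])).symm
  choose q hq' using fun k => hb (ν k).2
  let M : Matrix (Fin n) (Fin n) K := Matrix.of fun i k => ψ i (q k)
  have hM : IsUnit M := by
    rw [← Matrix.linearIndependent_cols_iff_isUnit]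
    have : (fun k => M.col k) = fun k => ((ν k : b) : Fin n → K) := funext fun k => funext fun i => congrFun (hq' k) i
    show LinearIndependent K (fun k => M.col k)
    rw [this]
    exact hli.comp ν ν.injective
  have hinj : ∀ f : R.Q →ₗ[A] K, (∀ k, f (q k) = 0) → f = 0 := fun f hf => by
    obtain ⟨a, ha⟩ := hgen f
    have h1 : Matrix.vecMul a M = Matrix.vecMul (0 : Fin n → K) M := by
      rw [Matrix.zero_vecMul]
      refine funext fun k => ?_
      refine Eq.trans ?_ (hf k)
      rw [ha, LinearMap.sum_apply]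
      rfl
    rw [ha, Matrix.vecMul_injective_iff_isUnit.2 hM h1]
    simp
  let p : Ideal A := RingHom.ker (algebraMap A K)
  haveI : p.IsPrime := RingHom.ker_isPrime _
  let N := R.Q ⧸ Submodule.span A (Set.range q)
  have hns : (⟨p, inferInstance⟩ : PrimeSpectrum A) ∉ Module.support A N := fun hmem => by
    obtain ⟨f, hf⟩ := SeesawGen.exists_form_ne_zero N _ hmem
    let ι : p.ResidueField →+* K := Ideal.ResidueField.lift p (algebraMap A K) le_rfl
      fun a ha => isUnit_iff_ne_zero.2 fun h => ha h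
    have h1 : ∀ a : A, ι (algebraMap A p.ResidueField a) = algebraMap A K a :=
      Ideal.ResidueField.lift_algebraMap (I := p) _ _ _
    let ιA : p.ResidueField →ₐ[A] K := ⟨ι, h1⟩
    have h2 : ιA.toLinearMap ∘ₗ f ∘ₗ (Submodule.span A (Set.range q)).mkQ = 0 := hinj _ fun k => by
      show ι (f (Submodule.Quotient.mk (q k))) = 0
      rw [(Submodule.Quotient.mk_eq_zero (Submodule.span A (Set.range q))).2 (Submodule.subset_span (Set.mem_range_self k)),
        map_zero, map_zero]
    refine hf (LinearMap.ext fun y => ι.injective ?_)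
    obtain ⟨x, rfl⟩ := Submodule.Quotient.mk_surjective _ y
    exact (LinearMap.congr_fun h2 x).trans (map_zero ι).symm
  rw [Module.mem_support_iff_of_finite, SetLike.not_le_iff_exists] at hns
  obtain ⟨g, hg, hgp⟩ := hns
  exact ⟨g, q, hgp, fun x => (Submodule.Quotient.mk_eq_zero _).1 (Module.mem_annihilator.1 hg (Submodule.Quotient.mk x))⟩

end Groth.Agent.DescLocus
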