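import Groth.Agent.DescLocus.FreeP
import Groth.Agent.RGLib.PullbackFrame
import Groth.Agent.RGLib.FrameLocal
import Groth.Agent.H23.EndInv
import Groth.Agent.ExtShX.SmFrame

/-!
# Global sections which become a frame on a fibre
-/

set_option autoImplicit false
attribute [-instance] CategoryTheory.catToReflQuiver
set_option linter.style.haveILetI false
set_option backward.isDefEq.respectTransparency false
set_option backward.isDefEq.respectTransparency.types false
set_option maxHeartbeats 1000000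

universe u

open CategoryTheory CategoryTheory.Limits AlgebraicGeometry TopologicalSpace Opposite

noncomputable section

namespace Groth.Agent.DescLocus

open Groth.Agent.H23.Frame

variable {X : Scheme.{u}} {n : ℕ}

theorem comb_single {M : X.Modules} {U : X.Opens} (e : Fin n → Γ(M, U)) (i : Fin n) :
    comb M e U le_rfl (Pi.single i 1) = e i := by
  rw [comb, Finset.sum_eq_single i]
  · rw [Pi.single_eq_same, one_smul]
    exact QCoh.map_id' _ _
  · intro j _ hj
    rw [Pi.single_eq_of_ne hj, zero_smul]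
  · intro h
    exact absurd (Finset.mem_univ i) h

theorem comb_matrix {M : X.Modules} {U : X.Opens} {e s : Fin n → Γ(M, U)} {C : Matrix (Fin n) (Fin n) Γ(X, U)}
    (hs : ∀ i, s i = ∑ j, C i j • e j) (W : X.Opens) (h : W ≤ U) (c : Fin n → Γ(X, W)) :
    comb M s W h c = comb M e W h (Matrix.vecMul c (C.map (X.presheaf.map (homOfLE h).op).hom)) := by
  simp only [comb, hs, map_sum, Scheme.Modules.map_smul, Finset.smul_sum, smul_smul, Matrix.vecMul, dotProduct,
    Matrix.map_apply, Finset.sum_smul]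
  exact Finset.sum_comm

theorem isFrame_of_matrix {M : X.Modules} {U : X.Opens} {e s : Fin n → Γ(M, U)} {C : Matrix (Fin n) (Fin n) Γ(X, U)}
    (he : IsFrame M e) (hs : ∀ i, s i = ∑ j, C i j • e j) (hC : IsUnit C.det) : IsFrame M s := fun W h => by
  let C' := C.map (X.presheaf.map (homOfLE h).op).hom
  have hC' : IsUnit C'.det := by
    have h1 : C'.det = (X.presheaf.map (homOfLE h).op).hom C.det := (RingHom.map_det _ _).symm
    rw [h1]
    exact hC.map _
  have key : comb M s W h = comb M e W h ∘ fun c => Matrix.vecMul c C' := funext fun c => comb_matrix hs W h c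
  rw [key]
  refine (he W h).comp (Function.bijective_iff_has_inverse.2 ⟨fun c => Matrix.vecMul c C'⁻¹, fun c => ?_, fun c => ?_⟩)
  · simp only [Matrix.vecMul_vecMul, Matrix.mul_nonsing_inv _ hC', Matrix.vecMul_one]
  · simp only [Matrix.vecMul_vecMul, Matrix.nonsing_inv_mul _ hC', Matrix.vecMul_one]

theorem isUnit_det_of_gen {M : X.Modules} {U : X.Opens} {e s : Fin n → Γ(M, U)}
    {C : Matrix (Fin n) (Fin n) Γ(X, U)} (he : IsFrame M e) (hC : ∀ i, s i = ∑ j, C i j • e j)
    (hgen : ∀ i, ∃ d, comb M s U le_rfl d = e i) : IsUnit C.det := by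
  choose D hD using hgen
  have h1 : ∀ i, Matrix.vecMul (D i) (C.map (X.presheaf.map (homOfLE (le_refl U)).op).hom) = Pi.single i 1 :=
    fun i => (he U le_rfl).1 ((comb_matrix hC U le_rfl (D i)).symm.trans ((hD i).trans (comb_single e i).symm))
  have hid : C.map (X.presheaf.map (homOfLE (le_refl U)).op).hom = C := by
    ext i j
    rw [Matrix.map_apply, show (homOfLE (le_refl U)).op = 𝟙 (op U) from rfl, X.presheaf.map_id]
    rfl
  refine Matrix.isUnit_det_of_left_inverse (B := Matrix.of D) (Matrix.ext fun i j => ?_)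
  have h2 := congrFun (h1 i) j
  rw [hid] at h2
  rw [Matrix.mul_apply]
  refine Eq.trans h2 ?_
  simp [Matrix.one_apply, Pi.single_apply, eq_comm]

theorem isUnit_det_of_frames {M : X.Modules} {U : X.Opens} {e s : Fin n → Γ(M, U)}
    {C : Matrix (Fin n) (Fin n) Γ(X, U)} (he : IsFrame M e) (hs : IsFrame M s)
    (hC : ∀ i, s i = ∑ j, C i j • e j) : IsUnit C.det :=
  isUnit_det_of_gen he hC fun i => (hs U le_rfl).2 (e i)

theorem pullSec_self {Y : Scheme.{u}} (g : Y ⟶ X) (M : X.Modules) {U : X.Opens} (x : Γ(M, U)) :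
    QCoh.pullSec g M (le_refl (g ⁻¹ᵁ U)) x = InvX.pullElt g x :=
  QCoh.map_id' (M := (Scheme.Modules.pullback g).obj M) _ _

theorem isFrame_pullElt {Y : Scheme.{u}} (g : Y ⟶ X) {M : X.Modules} (hM : Coh.IsQCoh M) {U : X.Opens}
    {e : Fin n → Γ(M, U)} (he : IsFrame M e) :
    IsFrame ((Scheme.Modules.pullback g).obj M) fun i => InvX.pullElt g (e i) := by
  have h := RGLib.PullbackFrame.isFrame_pullback g hM he
  exact (funext fun i => pullSec_self g M (e i)) ▸ h

/-- Sections which are a frame after pullback are a frame near the points of the image. -/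
theorem exists_nhd_frame {X' : Scheme.{u}} {E : X.Modules} (hq : Coh.IsQCoh E) (g : X' ⟶ X)
    (s : Fin n → Γ(E, (⊤ : X.Opens)))
    (hg : IsFrame ((Scheme.Modules.pullback g).obj E) (U := g ⁻¹ᵁ ⊤) fun i => InvX.pullElt g (s i))
    (z : X') {U : X.Opens} (hz : g z ∈ U) {e : Fin n → Γ(E, U)} (he : IsFrame E e) :
    ∃ D : X.Opens, g z ∈ D ∧ IsFrame E fun i => E.presheaf.map (homOfLE (le_top : D ≤ ⊤)).op (s i) := by
  choose C hC using fun i => (he U le_rfl).2 (E.presheaf.map (homOfLE (le_top : U ≤ ⊤)).op (s i))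
  have hs : ∀ i, E.presheaf.map (homOfLE (le_top : U ≤ ⊤)).op (s i) = ∑ j, (Matrix.of C) i j • e j := fun i => by
    rw [← hC i]
    exact Finset.sum_congr rfl fun j _ => congrArg _ (QCoh.map_id' _ _)
  let C' : Matrix (Fin n) (Fin n) Γ(X', g ⁻¹ᵁ U) := (Matrix.of C).map (g.app U).hom
  have hs' : ∀ i, InvX.pullElt g (E.presheaf.map (homOfLE (le_top : U ≤ ⊤)).op (s i)) =
      ∑ j, C' i j • InvX.pullElt g (e j) := fun i => by
    rw [hs i]
    refine (map_sum (((Scheme.Modules.pullbackPushforwardAdjunction g).unit.app E).app U).hom _ _).trans ?_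
    exact Finset.sum_congr rfl fun j _ => H23.EndInv.pullElt_smul g _ _
  have hres : IsFrame ((Scheme.Modules.pullback g).obj E) fun i =>
      InvX.pullElt g (E.presheaf.map (homOfLE (le_top : U ≤ ⊤)).op (s i)) := by
    refine (congrArg (IsFrame _) (funext fun i => ?_)).mp (hg.res (g.preimage_mono (le_top : U ≤ ⊤)))
    exact (QCoh.map_app_comm ((Scheme.Modules.pullbackPushforwardAdjunction g).unit.app E)
      (homOfLE (le_top : U ≤ ⊤)) (s i)).symm
  have hdet : IsUnit C'.det := isUnit_det_of_frames (isFrame_pullElt g hq he) hres hs'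
  have hzD : g z ∈ X.basicOpen (Matrix.of C).det := by
    show z ∈ g ⁻¹ᵁ X.basicOpen (Matrix.of C).det
    rw [Scheme.preimage_basicOpen, show (g.app U) (Matrix.of C).det = C'.det from RingHom.map_det _ _,
      Scheme.basicOpen_of_isUnit _ hdet]
    exact hz
  refine ⟨X.basicOpen (Matrix.of C).det, hzD, ?_⟩
  have hle := X.basicOpen_le (Matrix.of C).det
  refine isFrame_of_matrix (he.res hle)
    (C := (Matrix.of C).map (X.presheaf.map (homOfLE hle).op).hom) (fun i => ?_) ?_
  · have h := congrArg (E.presheaf.map (homOfLE hle).op) (hs i)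
    rw [map_sum] at h
    refine ((QCoh.map_map _ _ _).symm.trans h).trans (Finset.sum_congr rfl fun j _ => ?_)
    exact Scheme.Modules.map_smul _ _ _ _
  · rw [show ((Matrix.of C).map (X.presheaf.map (homOfLE hle).op).hom).det =
      (X.presheaf.map (homOfLE hle).op).hom (Matrix.of C).det from (RingHom.map_det _ _).symm]
    exact X.toLocallyRingedSpace.toRingedSpace.isUnit_res_basicOpen (Matrix.of C).det

/-- Sections which are a frame near every point of a fibre of a closed map are a frame over a neighbourhood. -/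
theorem exists_frame_over {S : Scheme.{u}} (f : X ⟶ S) (hf : IsClosedMap f) {E : X.Modules}
    (s : Fin n → Γ(E, (⊤ : X.Opens))) (y : S)
    (h : ∀ x : X, f x = y →
      ∃ D : X.Opens, x ∈ D ∧ IsFrame E fun i => E.presheaf.map (homOfLE (le_top : D ≤ ⊤)).op (s i)) :
    ∃ V : S.Opens, y ∈ V ∧ IsFrame E fun i => E.presheaf.map (homOfLE (le_top : f ⁻¹ᵁ V ≤ ⊤)).op (s i) := by
  let O : Set X := {x | ∃ D : X.Opens, x ∈ D ∧ IsFrame E fun i => E.presheaf.map (homOfLE (le_top : D ≤ ⊤)).op (s i)}
  have hO : IsOpen O := by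
    refine isOpen_iff_forall_mem_open.2 ?_
    rintro x ⟨D, hx, hD⟩
    exact ⟨(D : Set X), fun w hw => ⟨D, hw, hD⟩, D.2, hx⟩
  let V : S.Opens := ⟨(f '' Oᶜ)ᶜ, (hf _ hO.isClosed_compl).isOpen_compl⟩
  refine ⟨V, fun ⟨x, hx, hxy⟩ => hx (h x hxy), RGLib.FrameLocal.isFrame_of_local E fun x => ?_⟩
  obtain ⟨D, hxD, hD⟩ : x.1 ∈ O := by
    by_contra hn
    exact x.2 ⟨x.1, hn, rfl⟩
  refine ⟨D ⊓ f ⁻¹ᵁ V, inf_le_right, ⟨hxD, x.2⟩, fun A' hA' _ => ?_⟩
  have hA'D : A' ≤ D := hA'.trans inf_le_left
  refine (congrArg Function.Bijective (funext fun c => ?_)).mp (hD A' hA'D)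
  exact Finset.sum_congr rfl fun i _ => congrArg _ (QCoh.map_map _ _ _ |>.trans (QCoh.map_map (M := E) (homOfLE (hA'.trans inf_le_right)) (homOfLE le_top) (s i)).symm)

/-- A free module has a global frame. -/
theorem exists_globalFrame {M : X.Modules} (e : M ≅ FlatMod.freeMod X n) :
    ∃ s : Fin n → Γ(M, (⊤ : X.Opens)), IsFrame M s :=
  ⟨_, GrpOmega.isFrame_map e.symm incl_isFrame⟩

/-- A frame on the inverse image of an open is freeness over it. -/
theorem freeP_of_frame {S : Scheme.{u}} {f : X ⟶ S} {T : Scheme.{u}} {u : T ⟶ S} {E : X.Modules} {V : T.Opens}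
    (s : Fin n → Γ((Scheme.Modules.pullback (pullback.fst f u)).obj E, pullback.snd f u ⁻¹ᵁ V))
    (hs : IsFrame _ s) : FreeP E (pullback.fst f (V.ι ≫ u)) := by
  obtain ⟨φ⟩ := exists_iso_of_frame s hs
  let W := pullback.snd f u ⁻¹ᵁ V
  have h1 : FreeP E (W.ι ≫ pullback.fst f u) :=
    ⟨n, ⟨((Scheme.Modules.pullbackComp W.ι (pullback.fst f u)).app E).symm ≪≫
      ((Scheme.Modules.restrictFunctorIsoPullback W.ι).app _).symm ≪≫ φ⟩⟩
  let a : pullback f (V.ι ≫ u) ⟶ pullback f u :=
    pullback.lift (pullback.fst _ _) (pullback.snd _ _ ≫ V.ι) (by rw [Category.assoc]; exact pullback.condition)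
  have ha : Set.range a ⊆ Set.range W.ι := by
    rw [Scheme.Opens.range_ι]
    rintro _ ⟨z, rfl⟩
    show pullback.snd f u (a z) ∈ V
    rw [← Scheme.Hom.comp_apply, pullback.lift_snd, Scheme.Hom.comp_apply]
    exact (pullback.snd f (V.ι ≫ u) z).2
  exact h1.of_factor (IsOpenImmersion.lift W.ι a ha) (by rw [IsOpenImmersion.lift_fac_assoc]; exact pullback.lift_fst _ _ _)

/-- Two frames through one point have the same size. -/
theorem eq_of_frames {m : ℕ} {M : X.Modules} {U U' : X.Opens} {s : Fin n → Γ(M, U)} {s' : Fin m → Γ(M, U')}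
    (hs : IsFrame M s) (hs' : IsFrame M s') (x : X) (hx : x ∈ U) (hx' : x ∈ U') : n = m :=
  ExtShX.SmFrame.eq_of_frames hs hs' x hx hx'

end Groth.Agent.DescLocus
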