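import Groth.Agent.DescLocus.Rep
import Groth.Agent.DescLocus.Frames
import Groth.Agent.H23.Seesaw

/-!
# Forms on the corepresenting module and frames after a change of base
-/

set_option autoImplicit false
attribute [-instance] CategoryTheory.catToReflQuiver
set_option linter.style.haveILetI false
set_option backward.isDefEq.respectTransparency false
set_option backward.isDefEq.respectTransparency.types false
set_option maxHeartbeats 1000000

universe u

open CategoryTheory CategoryTheory.Limits AlgebraicGeometry TopologicalSpace Opposite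

noncomputable section

namespace Groth.Agent.DescLocus

open Groth.Agent.H23.Frame

variable {A : Type u} [CommRing A] {X : Scheme.{u}} {π : X ⟶ Spec (CommRingCat.of A)} {E : X.Modules}
  (R : SecRep π E) {B : Type u} [CommRing B] [Algebra A B] {X' : Scheme.{u}} {φ : X' ⟶ X}
  {pB : X' ⟶ Spec (CommRingCat.of B)} (hpb : IsPullback φ pB π (Spec.map (CommRingCat.ofHom (algebraMap A B))))
  {n : ℕ}

theorem SecRep.ε_sum (a : Fin n → B) (ψ : Fin n → (R.Q →ₗ[A] B)) :
    R.ε B X' φ pB hpb (∑ i, LinearMap.mulLeft A (a i) ∘ₗ ψ i) =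
      comb ((Scheme.Modules.pullback φ).obj E) (fun i => R.ε B X' φ pB hpb (ψ i)) ⊤ le_rfl
        (fun i => Coh.toGlobal pB (a i)) := by
  rw [map_sum]
  exact Finset.sum_congr rfl fun i _ => (R.lin B X' φ pB hpb (a i) (ψ i)).trans
    (congrArg _ (QCoh.map_id' _ _).symm)

variable {e : Fin n → Γ((Scheme.Modules.pullback φ).obj E, (⊤ : X'.Opens))} (he : IsFrame _ e)
  (hB : Function.Bijective pB.appTop)

include he hB in
/-- The forms of a frame are a basis. -/
theorem SecRep.forms_basis :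
    (∀ f : R.Q →ₗ[A] B, ∃ a : Fin n → B, f = ∑ i, LinearMap.mulLeft A (a i) ∘ₗ (R.ε B X' φ pB hpb).symm (e i)) ∧
    ∀ a : Fin n → B, (∑ i, LinearMap.mulLeft A (a i) ∘ₗ (R.ε B X' φ pB hpb).symm (e i)) = 0 → a = 0 := by
  have hg : Function.Bijective (Coh.toGlobal pB) := H23.Seesaw.toGlobal_bijective pB hB
  have key : ∀ a : Fin n → B, R.ε B X' φ pB hpb (∑ i, LinearMap.mulLeft A (a i) ∘ₗ (R.ε B X' φ pB hpb).symm (e i)) =
      comb ((Scheme.Modules.pullback φ).obj E) e ⊤ le_rfl (fun i => Coh.toGlobal pB (a i)) := fun a => by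
    rw [R.ε_sum hpb]
    exact congrArg (fun t => comb _ t ⊤ le_rfl _) (funext fun i => (R.ε B X' φ pB hpb).apply_symm_apply _)
  refine ⟨fun f => ?_, fun a ha => ?_⟩
  · obtain ⟨c, hc⟩ := (he ⊤ le_rfl).2 (R.ε B X' φ pB hpb f)
    choose a ha using fun i => hg.2 (c i)
    refine ⟨a, (R.ε B X' φ pB hpb).injective ?_⟩
    rw [key, show (fun i => Coh.toGlobal pB (a i)) = c from funext ha, hc]
  · have h := key a
    rw [ha, map_zero] at h
    have h0 : comb ((Scheme.Modules.pullback φ).obj E) e ⊤ le_rfl 0 = 0 := by simp [comb]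
    exact funext fun i => hg.1 ((congrFun ((he ⊤ le_rfl).1 (h.symm.trans h0.symm)) i).trans (map_zero _).symm)

omit hpb he in
include hB in
theorem nonempty_of_nontrivial [Nontrivial B] : Nonempty X' := by
  by_contra hne
  haveI : IsEmpty X' := not_nonempty_iff.1 hne
  haveI : Subsingleton Γ(X', ⊤) := CommRingCat.subsingleton_of_isTerminal
    (X'.sheaf.isTerminalOfEqEmpty (show (⊤ : X'.Opens) = ⊥ from Opens.ext (Set.eq_empty_of_isEmpty _)))
  exact not_subsingleton B ((Equiv.ofBijective _ (H23.Seesaw.toGlobal_bijective pB hB)).subsingleton_congr.2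
    (inferInstanceAs (Subsingleton Γ(X', ⊤))))

omit R hpb he in
include hB in
/-- The size of a global frame is the rank. -/
theorem exists_frame_of_freeP [Nontrivial B] (hq : Coh.IsQCoh E)
    (hrk : ∀ x : X, ∃ (U : X.Opens) (e : Fin n → Γ(E, U)), x ∈ U ∧ IsFrame E e) (h : FreeP E φ) :
    ∃ e : Fin n → Γ((Scheme.Modules.pullback φ).obj E, (⊤ : X'.Opens)), IsFrame _ e := by
  obtain ⟨m, ⟨i⟩⟩ := h
  obtain ⟨e, he⟩ := exists_globalFrame i
  obtain ⟨z⟩ := nonempty_of_nontrivial (pB := pB) hB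
  obtain ⟨U, e₀, hU, he₀⟩ := hrk (φ z)
  obtain rfl : m = n := eq_of_frames he (isFrame_pullElt φ hq he₀) z trivial hU
  exact ⟨e, he⟩

omit R hpb he hB in
theorem freeP_of_isPullback {K : Type u} [CommRing K] [Algebra A K] {X'' : Scheme.{u}} {φ' : X'' ⟶ X}
    {pK : X'' ⟶ Spec (CommRingCat.of K)}
    (h' : IsPullback φ' pK π (Spec.map (CommRingCat.ofHom (algebraMap A K))))
    (h : FreeP E (pullback.fst π (Spec.map (CommRingCat.ofHom (algebraMap A K))))) : FreeP E φ' :=
  h.of_factor (pullback.lift φ' pK h'.w) (pullback.lift_fst _ _ _)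

omit R hpb he hB in
theorem freeP_pullback_iff {Y Z : Scheme.{u}} (g : Z ⟶ Y) {M : Y.Modules} {W : Scheme.{u}} (h : W ⟶ Z) :
    FreeP ((Scheme.Modules.pullback g).obj M) h ↔ FreeP M (h ≫ g) :=
  ⟨fun ⟨n, ⟨i⟩⟩ => ⟨n, ⟨((Scheme.Modules.pullbackComp h g).app M).symm ≪≫ i⟩⟩,
    fun ⟨n, ⟨i⟩⟩ => ⟨n, ⟨(Scheme.Modules.pullbackComp h g).app M ≪≫ i⟩⟩⟩

end Groth.Agent.DescLocus
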