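import Groth.Agent.H23.PullPush
import Groth.Agent.H23.Frame
import Groth.Agent.GrpOmega.GlobalFrame

/-!
# Modules which become free, locally on a test scheme
-/

set_option autoImplicit false
attribute [-instance] CategoryTheory.catToReflQuiver
set_option linter.style.haveILetI false
set_option backward.isDefEq.respectTransparency false
set_option backward.isDefEq.respectTransparency.types false
set_option maxHeartbeats 1000000

universe u

open CategoryTheory CategoryTheory.Limits AlgebraicGeometry TopologicalSpace Opposite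

noncomputable section

namespace Groth.Agent.DescLocus

variable {X S : Scheme.{u}}

/-- The pullback of a free module is free. -/
theorem nonempty_pullback_freeMod {Y : Scheme.{u}} (g : Y ⟶ X) (n : ℕ) :
    Nonempty ((Scheme.Modules.pullback g).obj (FlatMod.freeMod X n) ≅ FlatMod.freeMod Y n) :=
  ⟨PreservesCoproduct.iso (Scheme.Modules.pullback g) _ ≪≫ Sigma.mapIso fun _ =>
    @asIso _ _ _ _ (show (Scheme.Modules.pullback g).obj (Coh.structureModule X) ⟶ Coh.structureModule Y from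
        SheafOfModules.pullbackObjUnitToUnit g.toRingCatSheafHom)
      (inferInstanceAs (IsIso (SheafOfModules.pullbackObjUnitToUnit g.toRingCatSheafHom)))⟩

/-- The pullback of the module is free of finite rank. -/
def FreeP (E : X.Modules) {Y : Scheme.{u}} (g : Y ⟶ X) : Prop :=
  ∃ n : ℕ, Nonempty ((Scheme.Modules.pullback g).obj E ≅ FlatMod.freeMod Y n)

theorem FreeP.of_factor {E : X.Modules} {Y Z : Scheme.{u}} {g : Y ⟶ X} (h : FreeP E g) (t : Z ⟶ Y) {g' : Z ⟶ X}
    (ht : t ≫ g = g') : FreeP E g' := by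
  obtain ⟨n, ⟨e⟩⟩ := h
  obtain ⟨i⟩ := nonempty_pullback_freeMod t n
  exact ⟨n, ⟨(Scheme.Modules.pullbackCongr ht.symm).app E ≪≫ ((Scheme.Modules.pullbackComp t g).app E).symm ≪≫
    (Scheme.Modules.pullback t).mapIso e ≪≫ i⟩⟩

/-- The module becomes free locally on the test scheme. -/
def LocFreeP (f : X ⟶ S) (E : X.Modules) {T : Scheme.{u}} (u : T ⟶ S) : Prop :=
  ∀ t : T, ∃ V : T.Opens, t ∈ V ∧ FreeP E (pullback.fst f (V.ι ≫ u))

variable {f : X ⟶ S} {E : X.Modules}

theorem FreeP.base {T T' : Scheme.{u}} {u : T ⟶ S} (h : FreeP E (pullback.fst f u)) (v : T' ⟶ T) {u' : T' ⟶ S}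
    (hv : v ≫ u = u') : FreeP E (pullback.fst f u') :=
  h.of_factor (pullback.lift (pullback.fst f u') (pullback.snd f u' ≫ v)
    (by rw [Category.assoc, hv, pullback.condition])) (pullback.lift_fst _ _ _)

theorem LocFreeP.comp {T T' : Scheme.{u}} {u : T ⟶ S} (h : LocFreeP f E u) (v : T' ⟶ T) :
    LocFreeP f E (v ≫ u) := fun t => by
  obtain ⟨V, hV, hF⟩ := h (v t)
  exact ⟨v ⁻¹ᵁ V, hV, hF.base (v ∣_ V) (by rw [morphismRestrict_ι_assoc])⟩

theorem locFreeP_of_cover {T : Scheme.{u}} {u : T ⟶ S}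
    (h : ∀ t : T, ∃ (T' : Scheme.{u}) (j : T' ⟶ T) (_ : IsOpenImmersion j), t ∈ Set.range j ∧ LocFreeP f E (j ≫ u)) :
    LocFreeP f E u := fun t => by
  obtain ⟨T', j, _, ⟨t', rfl⟩, hj⟩ := h t
  obtain ⟨V, hV, hF⟩ := hj t'
  refine ⟨j ''ᵁ V, ⟨t', hV, rfl⟩, hF.base
    (IsOpenImmersion.lift (V.ι ≫ j) (j ''ᵁ V).ι (by simp [Set.range_comp])) ?_⟩
  rw [← Category.assoc V.ι, ← Category.assoc, IsOpenImmersion.lift_fac]

theorem locFreeP_of_freeP {T : Scheme.{u}} {u : T ⟶ S} (h : FreeP E (pullback.fst f u)) : LocFreeP f E u :=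
  fun _ => ⟨⊤, trivial, h.base (⊤ : T.Opens).ι rfl⟩

/-- Near a point of an affine test scheme the module is free on a basic open. -/
theorem LocFreeP.exists_basicOpen {B : Type u} [CommRing B] {u : Spec (CommRingCat.of B) ⟶ S} (h : LocFreeP f E u)
    (p : Spec (CommRingCat.of B)) : ∃ b : B, b ∉ p.asIdeal ∧
      FreeP E (pullback.fst f (Spec.map (CommRingCat.ofHom (algebraMap B (Localization.Away b))) ≫ u)) := by
  obtain ⟨V, hV, hF⟩ := h p
  obtain ⟨_, ⟨b, rfl⟩, hpb, hbV⟩ :=
    PrimeSpectrum.isTopologicalBasis_basic_opens.exists_subset_of_mem_open hV V.isOpen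
  have hr : Set.range (Spec.map (CommRingCat.ofHom (algebraMap B (Localization.Away b)))) ⊆ Set.range V.ι := by
    rw [Scheme.Opens.range_ι]
    exact (PrimeSpectrum.localization_away_comap_range _ b).trans_subset hbV
  exact ⟨b, hpb, hF.base (IsOpenImmersion.lift V.ι _ hr) (by rw [IsOpenImmersion.lift_fac_assoc])⟩

/-- A pullback of a finite locally free module of the test scheme is locally free along it. -/
theorem locFreeP_of_pullback {T : Scheme.{u}} {u : T ⟶ S} {N : T.Modules} (hN : FlatMod.IsFinLocFree N)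
    (e : (Scheme.Modules.pullback (pullback.snd f u)).obj N ≅ (Scheme.Modules.pullback (pullback.fst f u)).obj E) :
    LocFreeP f E u := fun t => by
  obtain ⟨V, n, hV, ⟨φ⟩⟩ := hN t
  let a : pullback f (V.ι ≫ u) ⟶ pullback f u :=
    pullback.lift (pullback.fst _ _) (pullback.snd _ _ ≫ V.ι) (by rw [Category.assoc]; exact pullback.condition)
  have ha : a ≫ pullback.fst f u = pullback.fst f (V.ι ≫ u) := pullback.lift_fst _ _ _
  have hb : a ≫ pullback.snd f u = pullback.snd f (V.ι ≫ u) ≫ V.ι := pullback.lift_snd _ _ _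
  obtain ⟨i⟩ := nonempty_pullback_freeMod (pullback.snd f (V.ι ≫ u)) n
  exact ⟨V, hV, n, ⟨(Scheme.Modules.pullbackCongr ha.symm).app E ≪≫
    ((Scheme.Modules.pullbackComp a (pullback.fst f u)).app E).symm ≪≫
    (Scheme.Modules.pullback a).mapIso e.symm ≪≫ (Scheme.Modules.pullbackComp a (pullback.snd f u)).app N ≪≫
    (Scheme.Modules.pullbackCongr hb).app N ≪≫
    ((Scheme.Modules.pullbackComp (pullback.snd f (V.ι ≫ u)) V.ι).app N).symm ≪≫
    (Scheme.Modules.pullback _).mapIso (((Scheme.Modules.restrictFunctorIsoPullback V.ι).app N).symm ≪≫ φ) ≪≫ i⟩⟩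

/-- A module which is locally free along the test scheme comes from it. -/
theorem LocFreeP.exists_pullback {T : Scheme.{u}} {u : T ⟶ S}
    (hp : ∀ W : T.Opens, Function.Bijective ((pullback.snd f u).app W)) (h : LocFreeP f E u) :
    ∃ N : T.Modules, FlatMod.IsFinLocFree N ∧
      Nonempty ((Scheme.Modules.pullback (pullback.snd f u)).obj N ≅ (Scheme.Modules.pullback (pullback.fst f u)).obj E) := by
  let p := pullback.snd f u
  let L := (Scheme.Modules.pullback (pullback.fst f u)).obj E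
  have key : ∀ t : T, ∃ (V : T.Opens) (n : ℕ), t ∈ V ∧
      Nonempty (L.restrict (p ⁻¹ᵁ V).ι ≅ (Scheme.Modules.pullback (p ∣_ V)).obj (FlatMod.freeMod (V : Scheme.{u}) n)) := by
    intro t
    obtain ⟨V, hV, hF⟩ := h t
    obtain ⟨n, ⟨ψ⟩⟩ := hF.of_factor (pullback.lift ((p ⁻¹ᵁ V).ι ≫ pullback.fst f u) (p ∣_ V)
      (by rw [Category.assoc, pullback.condition, morphismRestrict_ι_assoc])) (pullback.lift_fst _ _ _)
    obtain ⟨i⟩ := nonempty_pullback_freeMod (p ∣_ V) n
    exact ⟨V, n, hV, ⟨(Scheme.Modules.restrictFunctorIsoPullback _).app L ≪≫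
      (Scheme.Modules.pullbackComp (p ⁻¹ᵁ V).ι (pullback.fst f u)).app E ≪≫ ψ ≪≫ i.symm⟩⟩
  choose V n hV hψ using key
  refine ⟨(Scheme.Modules.pushforward p).obj L, fun t => ⟨V t, n t, hV t, ?_⟩,
    ⟨@asIso _ _ _ _ ((Scheme.Modules.pullbackPushforwardAdjunction p).counit.app L) ?_⟩⟩
  · haveI := H23.PullPush.isIso_unit_freeMod (p ∣_ V t) (H23.PullPush.app_morphismRestrict_bijective p hp (V t)) (n t)
    exact ⟨asIso ((H23.PullPush.pushRestrict p (V t)).app L) ≪≫
      (Scheme.Modules.pushforward (p ∣_ V t)).mapIso (hψ t).some ≪≫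
      (asIso ((Scheme.Modules.pullbackPushforwardAdjunction (p ∣_ V t)).unit.app
        (FlatMod.freeMod (V t : Scheme.{u}) (n t)))).symm⟩
  · refine H23.ModLoc.isIso_of_locally _ fun x => ⟨p ⁻¹ᵁ V (p x), hV (p x), H23.PullPush.isIso_restrict_counit p (V (p x)) L ?_⟩
    refine (NatTrans.isIso_app_iff_of_iso _ (hψ (p x)).some).mpr ?_
    exact H23.PullPush.isIso_counit_pullback_of_isFinLocFree (p ∣_ V (p x))
      (H23.PullPush.app_morphismRestrict_bijective p hp _) _ fun y =>
        ⟨⊤, n (p x), trivial, ⟨QCoh.freeModRestrict _ _⟩⟩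

/-- Descent to the test scheme is local freeness along it. -/
theorem exists_pullback_iff (hO : ∀ (T : Scheme.{u}) (g : T ⟶ S) (U : T.Opens), IsIso ((pullback.snd f g).app U))
    {T : Scheme.{u}} (u : T ⟶ S) :
    (∃ N : T.Modules, FlatMod.IsFinLocFree N ∧
      Nonempty ((Scheme.Modules.pullback (pullback.snd f u)).obj N ≅ (Scheme.Modules.pullback (pullback.fst f u)).obj E)) ↔
    LocFreeP f E u :=
  ⟨fun ⟨_, hN, ⟨e⟩⟩ => locFreeP_of_pullback hN e, fun h => h.exists_pullback fun W =>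
    haveI := hO T u W
    ConcreteCategory.bijective_of_isIso _⟩

end Groth.Agent.DescLocus
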