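import Mathlib

/-!
# A property of test schemes which is locally a closed condition is a closed condition
-/

set_option autoImplicit false
attribute [-instance] CategoryTheory.catToReflQuiver
set_option linter.style.haveILetI false
set_option backward.isDefEq.respectTransparency false
set_option backward.isDefEq.respectTransparency.types false
set_option maxHeartbeats 1000000

universe u

open CategoryTheory CategoryTheory.Limits AlgebraicGeometry TopologicalSpace

noncomputable section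

namespace Groth.Agent.DescLocus.Glue

/-- A property of test schemes which is stable under composition and local on the test scheme. -/
structure IsLocalProp {S : Scheme.{u}} (P : ∀ ⦃T : Scheme.{u}⦄, (T ⟶ S) → Prop) : Prop where
  comp : ∀ ⦃T T' : Scheme.{u}⦄ (v : T' ⟶ T) (u : T ⟶ S), P u → P (v ≫ u)
  cover : ∀ ⦃T : Scheme.{u}⦄ (u : T ⟶ S),
    (∀ t : T, ∃ (T' : Scheme.{u}) (j : T' ⟶ T) (_ : IsOpenImmersion j), t ∈ Set.range j ∧ P (j ≫ u)) → P u

/-- Near every point the property is cut out by a finitely generated ideal of an affine open. -/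
def LocallyClosedCond {S : Scheme.{u}} (P : ∀ ⦃T : Scheme.{u}⦄, (T ⟶ S) → Prop) : Prop :=
  ∀ x : S, ∃ (A : Type u) (_ : CommRing A) (g : Spec (CommRingCat.of A) ⟶ S) (_ : IsOpenImmersion g) (J : Ideal A),
    J.FG ∧ x ∈ Set.range g ∧ P (Spec.map (CommRingCat.ofHom (Ideal.Quotient.mk J)) ≫ g) ∧
      ∀ (B : Type u) [CommRing B] (φ : A →+* B), P (Spec.map (CommRingCat.ofHom φ) ≫ g) → J ≤ RingHom.ker φ

variable {S : Scheme.{u}} (P : ∀ ⦃T : Scheme.{u}⦄, (T ⟶ S) → Prop) {A : Type u} [CommRing A]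
  (g : Spec (CommRingCat.of A) ⟶ S)

/-- A ring map out of the chart with the property. -/
def IsTest {B : Type u} [CommRing B] (φ : A →+* B) : Prop := P (Spec.map (CommRingCat.ofHom φ) ≫ g)

/-- The functions killed by all test maps. -/
def killI : Ideal A where
  carrier := {a | ∀ (B : Type u) [CommRing B] (φ : A →+* B), IsTest P g φ → φ a = 0}
  add_mem' := fun ha hb B _ φ h => by rw [map_add, ha B φ h, hb B φ h, add_zero]
  zero_mem' := fun B _ φ _ => map_zero φ
  smul_mem' := fun c a ha B _ φ h => by rw [smul_eq_mul, map_mul, ha B φ h, mul_zero]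

variable {P g}

theorem map_eq_zero {B : Type u} [CommRing B] {φ : A →+* B} (h : IsTest P g φ) {a : A} (ha : a ∈ killI P g) :
    φ a = 0 :=
  ha B φ h

theorem IsTest.comp (hP : IsLocalProp P) {B C : Type u} [CommRing B] [CommRing C] {φ : A →+* B} (h : IsTest P g φ)
    (ψ : B →+* C) : IsTest P g (ψ.comp φ) := by
  unfold IsTest
  rw [CommRingCat.ofHom_comp, Spec.map_comp, Category.assoc]
  exact hP.comp _ _ h

theorem eq_zero_of_locally {B : Type u} [CommRing B] (y : B)
    (h : ∀ p : PrimeSpectrum B, ∃ b, b ∉ p.asIdeal ∧ algebraMap B (Localization.Away b) y = 0) : y = 0 := by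
  let J : Ideal B := LinearMap.ker (LinearMap.mulRight B y)
  by_cases hJ : J = ⊤
  · have h1 : (1 : B) ∈ J := by rw [hJ]; trivial
    simpa [J] using h1
  obtain ⟨m, hm, hle⟩ := Ideal.exists_le_maximal J hJ
  obtain ⟨b, hb, h0⟩ := h ⟨m, hm.isPrime⟩
  obtain ⟨⟨_, n, rfl⟩, hn⟩ := (IsLocalization.map_eq_zero_iff (Submonoid.powers b) _ y).1 h0
  exact absurd (hle (show b ^ n ∈ J from hn)) fun h' => hb (hm.isPrime.mem_of_pow_mem n h')

variable (g) in
/-- Finitely many test maps detect the property over an affine chart. -/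
theorem exists_family (hP : IsLocalProp P) (hL : LocallyClosedCond P) :
    ∃ (n : Type u) (_ : Finite n) (r : n → A) (C : n → Type u) (_ : ∀ i, CommRing (C i)) (ξ : ∀ i, A →+* C i),
      (∀ x : PrimeSpectrum A, ∃ i, r i ∉ x.asIdeal) ∧ (∀ i, IsTest P g (ξ i)) ∧
      ∀ (B : Type u) [CommRing B] (φ : A →+* B), IsTest P g φ → ∀ i, IsUnit (φ (r i)) →
        ∃ θ : C i →+* B, θ.comp (ξ i) = φ := by
  have hloc : ∀ x : Spec (CommRingCat.of A), ∃ (r : A) (C : Type u) (_ : CommRing C) (ξ : A →+* C), r ∉ x.asIdeal ∧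
      IsTest P g ξ ∧ ∀ (B : Type u) [CommRing B] (φ : A →+* B), IsTest P g φ → IsUnit (φ r) →
        ∃ θ : C →+* B, θ.comp ξ = φ := by
    intro x
    obtain ⟨A', _, g', _, J, -, hx, hJ, hkill⟩ := hL (g x)
    obtain ⟨_, ⟨r, rfl⟩, hxr, hrV⟩ := PrimeSpectrum.isTopologicalBasis_basic_opens.exists_subset_of_mem_open
      (show x ∈ g ⁻¹' Set.range g' from hx) (g'.opensRange.2.preimage g.continuous)
    let s := Spec.map (CommRingCat.ofHom (algebraMap A (Localization.Away r)))
    have hr : Set.range (s ≫ g) ⊆ Set.range g' := by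
      rintro _ ⟨w, rfl⟩
      exact hrV ((PrimeSpectrum.localization_away_comap_range _ r).subset ⟨w, rfl⟩)
    let θ : CommRingCat.of A' ⟶ CommRingCat.of (Localization.Away r) := Spec.preimage (IsOpenImmersion.lift g' (s ≫ g) hr)
    have hθ : Spec.map θ ≫ g' = s ≫ g := by rw [Spec.map_preimage, IsOpenImmersion.lift_fac]
    let I := J.map θ.hom
    let ξ : A →+* Localization.Away r ⧸ I := (Ideal.Quotient.mk I).comp (algebraMap A _)
    refine ⟨r, _, inferInstance, ξ, hxr, ?_, fun B _ φ hφ hu => ?_⟩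
    · show P (Spec.map (CommRingCat.ofHom ((Ideal.Quotient.mk I).comp (algebraMap A (Localization.Away r)))) ≫ g)
      let q : A' ⧸ J →+* Localization.Away r ⧸ I := Ideal.Quotient.lift J ((Ideal.Quotient.mk I).comp θ.hom)
        fun a ha => Ideal.Quotient.eq_zero_iff_mem.2 (Ideal.mem_map_of_mem _ ha)
      have h1 : θ ≫ CommRingCat.ofHom (Ideal.Quotient.mk I) =
          CommRingCat.ofHom (Ideal.Quotient.mk J) ≫ CommRingCat.ofHom q := CommRingCat.hom_ext (RingHom.ext fun _ => rfl)
      rw [CommRingCat.ofHom_comp, Spec.map_comp, Category.assoc, ← hθ, ← Category.assoc, ← Spec.map_comp, h1,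
        Spec.map_comp, Category.assoc]
      exact hP.comp _ _ hJ
    · let φr : Localization.Away r →+* B := IsLocalization.Away.lift r hu
      have hφr : φr.comp (algebraMap A (Localization.Away r)) = φ := IsLocalization.Away.lift_comp r hu
      have hk : J ≤ RingHom.ker (φr.comp θ.hom) := hkill B _ (by
        rw [CommRingCat.ofHom_comp, Spec.map_comp, Category.assoc,
          show CommRingCat.ofHom θ.hom = θ from rfl, hθ, ← Category.assoc, ← Spec.map_comp,
          ← CommRingCat.ofHom_comp, hφr]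
        exact hφ)
      refine ⟨Ideal.Quotient.lift I φr fun a ha => RingHom.mem_ker.1 ((Ideal.map_le_iff_le_comap.2 hk :
        I ≤ RingHom.ker φr) ha), ?_⟩
      exact (RingHom.ext fun _ => rfl : _ = φr.comp (algebraMap A (Localization.Away r))).trans hφr
  choose r C hC ξ hr ht hu using hloc
  obtain ⟨s, hs⟩ := isCompact_univ.elim_finite_subcover
    (fun x : Spec (CommRingCat.of A) => ((PrimeSpectrum.basicOpen (r x) : Opens _) : Set (PrimeSpectrum A)))
    (fun x => (PrimeSpectrum.basicOpen (r x)).isOpen) fun x _ => Set.mem_iUnion.2 ⟨x, hr x⟩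
  refine ⟨(s : Set (Spec (CommRingCat.of A))), inferInstance, fun i => r i.1, fun i => C i.1, fun i => hC i.1,
    fun i => ξ i.1, fun x => ?_, fun i => ht i.1, fun B _ φ h i => hu i.1 B φ h⟩
  obtain ⟨i, hi, hxi⟩ := Set.mem_iUnion₂.1 (hs (Set.mem_univ x))
  exact ⟨⟨i, hi⟩, hxi⟩

variable (g) in
theorem exists_detect (hP : IsLocalProp P) (hL : LocallyClosedCond P) :
    ∃ (n : Type u) (_ : Finite n) (r : n → A) (C : n → Type u) (_ : ∀ i, CommRing (C i)) (ξ : ∀ i, A →+* C i),
      (∀ x : PrimeSpectrum A, ∃ i, r i ∉ x.asIdeal) ∧ (∀ i, IsTest P g (ξ i)) ∧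
      (∀ (B : Type u) [CommRing B] (φ : A →+* B), IsTest P g φ → ∀ i, IsUnit (φ (r i)) →
        ∃ θ : C i →+* B, θ.comp (ξ i) = φ) ∧
      ∀ a, (∀ i, ξ i a = 0) → a ∈ killI P g := by
  obtain ⟨n, hn, r, C, hC, ξ, h1, h2, h3⟩ := exists_family g hP hL
  refine ⟨n, hn, r, C, hC, ξ, h1, h2, h3, fun a ha B _ φ h => eq_zero_of_locally _ fun p => ?_⟩
  obtain ⟨i, hi⟩ := h1 (PrimeSpectrum.comap φ p)
  refine ⟨φ (r i), hi, ?_⟩
  obtain ⟨θ, hθ⟩ := h3 _ _ (h.comp hP (algebraMap B (Localization.Away (φ (r i))))) i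
    (IsLocalization.Away.algebraMap_isUnit (φ (r i)))
  show ((algebraMap B (Localization.Away (φ (r i)))).comp φ) a = 0
  rw [← hθ, RingHom.comp_apply, ha i, map_zero]

theorem exists_pow_mul_eq_zero {n : Type u} [Finite n] {B : n → Type u} [∀ i, CommRing (B i)]
    (φ : ∀ i, A →+* B i) (c a : A) (h : ∀ i, algebraMap (B i) (Localization.Away (φ i c)) (φ i a) = 0) :
    ∃ N : ℕ, ∀ i, φ i (c ^ N * a) = 0 := by
  have : ∀ i, ∃ k : ℕ, φ i (c ^ k * a) = 0 := fun i => by
    obtain ⟨⟨_, k, rfl⟩, hk⟩ := (IsLocalization.map_eq_zero_iff (Submonoid.powers (φ i c)) _ _).1 (h i)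
    exact ⟨k, by rw [map_mul, map_pow]; exact hk⟩
  choose k hk using this
  haveI := Fintype.ofFinite n
  refine ⟨∑ i, k i, fun i => ?_⟩
  obtain ⟨d, hd⟩ := Nat.exists_eq_add_of_le (Finset.single_le_sum (f := k) (fun _ _ => Nat.zero_le _) (Finset.mem_univ i))
  rw [hd, pow_add, mul_right_comm, map_mul, hk i, zero_mul]

/-- The ideal commutes with localization at one element. -/
theorem killI_map (hP : IsLocalProp P) (hL : LocallyClosedCond P) {A' : Type u} [CommRing A'] [Algebra A A'] (c : A)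
    [IsLocalization.Away c A'] (g' : Spec (CommRingCat.of A') ⟶ S)
    (hg' : Spec.map (CommRingCat.ofHom (algebraMap A A')) ≫ g = g') :
    (killI P g).map (algebraMap A A') = killI P g' := by
  have hcomp : ∀ (B : Type u) [CommRing B] (φ : A' →+* B),
      IsTest P g' φ ↔ IsTest P g (φ.comp (algebraMap A A')) := fun B _ φ => by
    unfold IsTest
    rw [CommRingCat.ofHom_comp, Spec.map_comp, Category.assoc, ← hg']
  refine le_antisymm (Ideal.map_le_iff_le_comap.2 fun a ha B _ φ h => map_eq_zero ((hcomp B φ).1 h) ha) fun b hb => ?_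
  obtain ⟨n, _, r, C, _, ξ, -, h2, -, h4⟩ := exists_detect g hP hL
  obtain ⟨k, a, hka⟩ := IsLocalization.Away.surj c b
  obtain ⟨N, hN⟩ := exists_pow_mul_eq_zero ξ c a fun i => by
    let l := algebraMap (C i) (Localization.Away (ξ i c))
    have hu : IsUnit ((l.comp (ξ i)) c) := IsLocalization.Away.algebraMap_isUnit (ξ i c)
    let lf := IsLocalization.Away.lift (S := A') c hu
    have hl : lf.comp (algebraMap A A') = l.comp (ξ i) := IsLocalization.Away.lift_comp c hu
    have ht : IsTest P g' lf := (hcomp _ lf).2 (by rw [hl]; exact (h2 i).comp hP l)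
    show (l.comp (ξ i)) a = 0
    rw [← hl, RingHom.comp_apply, ← hka, map_mul, map_eq_zero ht hb, zero_mul]
  have hmem := Ideal.mem_map_of_mem (algebraMap A A') (h4 _ hN)
  rw [map_mul, map_pow, ← hka] at hmem
  have huc : IsUnit (algebraMap A A' c) := IsLocalization.Away.algebraMap_isUnit c
  rw [mul_comm b, ← mul_assoc] at hmem
  exact (Ideal.unit_mul_mem_iff_mem _ ((huc.pow N).mul (huc.pow k))).1 hmem

/-- The chart modulo the ideal has the property. -/
theorem isTest_mk (hP : IsLocalProp P) (hL : LocallyClosedCond P) :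
    IsTest P g (Ideal.Quotient.mk (killI P g)) := by
  obtain ⟨n, _, r, C, _, ξ, h1, h2, -, -⟩ := exists_detect g hP hL
  refine hP.cover _ fun p => ?_
  let K := killI P g
  obtain ⟨_, ⟨c, rfl⟩, hcp, hc⟩ : ∃ v ∈ Set.range (fun c : A => (PrimeSpectrum.basicOpen c : Set (PrimeSpectrum A))),
      PrimeSpectrum.comap (Ideal.Quotient.mk K) p ∈ v ∧
      ∃ (A₁ : Type u) (_ : CommRing A₁) (g₁ : Spec (CommRingCat.of A₁) ⟶ S) (_ : IsOpenImmersion g₁) (J : Ideal A₁),
        P (Spec.map (CommRingCat.ofHom (Ideal.Quotient.mk J)) ≫ g₁) ∧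
        (∀ (B : Type u) [CommRing B] (φ : A₁ →+* B), P (Spec.map (CommRingCat.ofHom φ) ≫ g₁) → J ≤ RingHom.ker φ) ∧
        v ⊆ g ⁻¹' Set.range g₁ := by
    obtain ⟨A₁, i1, g₁, i2, J, -, hx, hJ, hk⟩ := hL (g (PrimeSpectrum.comap (Ideal.Quotient.mk K) p))
    obtain ⟨v, hv, hpv, hvs⟩ := PrimeSpectrum.isTopologicalBasis_basic_opens.exists_subset_of_mem_open
      (show PrimeSpectrum.comap (Ideal.Quotient.mk K) p ∈ g ⁻¹' Set.range g₁ from hx)
      (g₁.opensRange.2.preimage g.continuous)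
    exact ⟨v, hv, hpv, A₁, i1, g₁, i2, J, hJ, hk, hvs⟩
  obtain ⟨A₁, _, g₁, _, J, hJ, hk, hsub⟩ := hc
  let Ac := Localization.Away c
  let s := Spec.map (CommRingCat.ofHom (algebraMap A Ac))
  have hr : Set.range (s ≫ g) ⊆ Set.range g₁ := by
    rintro _ ⟨w, rfl⟩
    exact hsub ((PrimeSpectrum.localization_away_comap_range _ c).subset ⟨w, rfl⟩)
  let θ : CommRingCat.of A₁ ⟶ CommRingCat.of Ac := Spec.preimage (IsOpenImmersion.lift g₁ (s ≫ g) hr)
  have hθ : Spec.map θ ≫ g₁ = s ≫ g := by rw [Spec.map_preimage, IsOpenImmersion.lift_fac]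
  have hJK : J ≤ (killI P (s ≫ g)).comap θ.hom := fun a ha B _ φ h => by
    refine RingHom.mem_ker.1 (hk B (φ.comp θ.hom) ?_ ha)
    rw [CommRingCat.ofHom_comp, Spec.map_comp, Category.assoc, show CommRingCat.ofHom θ.hom = θ from rfl, hθ]
    exact h
  rw [← killI_map hP hL (g := g) c (s ≫ g) rfl] at hJK
  let c' : A ⧸ K := Ideal.Quotient.mk K c
  let j := Spec.map (CommRingCat.ofHom (algebraMap (A ⧸ K) (Localization.Away c')))
  haveI : IsOpenImmersion j := IsOpenImmersion.of_isLocalization c'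
  refine ⟨_, j, inferInstance, (PrimeSpectrum.localization_away_comap_range _ c').ge hcp, ?_⟩
  let l := (algebraMap (A ⧸ K) (Localization.Away c')).comp (Ideal.Quotient.mk K)
  have hu : IsUnit (l c) := IsLocalization.Away.algebraMap_isUnit c'
  let lc : Ac →+* Localization.Away c' := IsLocalization.Away.lift c hu
  have hlc : lc.comp (algebraMap A Ac) = l := IsLocalization.Away.lift_comp c hu
  have hker : K.map (algebraMap A Ac) ≤ RingHom.ker lc := Ideal.map_le_iff_le_comap.2 fun a ha => by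
    rw [Ideal.mem_comap, RingHom.mem_ker, ← RingHom.comp_apply, hlc]
    show algebraMap (A ⧸ K) (Localization.Away c') (Ideal.Quotient.mk K a) = 0
    rw [Ideal.Quotient.eq_zero_iff_mem.2 ha, map_zero]
  let q : A₁ ⧸ J →+* Localization.Away c' := Ideal.Quotient.lift J (lc.comp θ.hom)
    fun a ha => RingHom.mem_ker.1 (hker (hJK ha))
  have h1 : θ ≫ CommRingCat.ofHom lc = CommRingCat.ofHom (Ideal.Quotient.mk J) ≫ CommRingCat.ofHom q :=
    CommRingCat.hom_ext (RingHom.ext fun _ => rfl)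
  show P (j ≫ Spec.map (CommRingCat.ofHom (Ideal.Quotient.mk K)) ≫ g)
  rw [← Category.assoc, ← Spec.map_comp, ← CommRingCat.ofHom_comp,
    show (algebraMap (A ⧸ K) (Localization.Away c')).comp (Ideal.Quotient.mk K) = l from rfl, ← hlc,
    CommRingCat.ofHom_comp, Spec.map_comp, Category.assoc, ← hθ, ← Category.assoc, ← Spec.map_comp, h1,
    Spec.map_comp, Category.assoc]
  exact hP.comp _ _ hJ

/-- An ideal killed on affine test schemes is killed on all. -/
theorem appTop_eq_zero (hP : IsLocalProp P) {J : Ideal A}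
    (h : ∀ (B : Type u) [CommRing B] (φ : A →+* B), P (Spec.map (CommRingCat.ofHom φ) ≫ g) → J ≤ RingHom.ker φ)
    {T : Scheme.{u}} (v : T ⟶ Spec (CommRingCat.of A)) (hv : P (v ≫ g)) {a : A} (ha : a ∈ J) :
    v.appTop ((Scheme.ΓSpecIso (CommRingCat.of A)).inv a) = 0 := by
  refine T.IsSheaf.section_ext fun t _ => ?_
  obtain ⟨_, ⟨W, hW, rfl⟩, htW, -⟩ :=
    T.isBasis_affineOpens.exists_subset_of_mem_open (show t ∈ (⊤ : T.Opens) from trivial) (⊤ : T.Opens).2
  refine ⟨W, le_top, htW, ?_⟩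
  rw [map_zero]
  let φ : CommRingCat.of A ⟶ Γ(T, W) :=
    (Scheme.ΓSpecIso (CommRingCat.of A)).inv ≫ v.appLE ⊤ W (fun _ _ => trivial)
  have hφ : Spec.map φ = hW.fromSpec ≫ v := by
    rw [Spec.map_comp, ← IsAffineOpen.SpecMap_appLE_fromSpec v (isAffineOpen_top _) hW, IsAffineOpen.fromSpec_top,
      Scheme.isoSpec_Spec_inv]
  have h0 := RingHom.mem_ker.1 (h Γ(T, W) φ.hom (by
    rw [show CommRingCat.ofHom φ.hom = φ from rfl, hφ, Category.assoc]
    exact hP.comp _ _ hv) ha)
  exact h0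

/-- A property which is locally a closed condition is represented by a closed immersion. -/
theorem exists_closedImmersion (P : ∀ ⦃T : Scheme.{u}⦄, (T ⟶ S) → Prop) (hP : IsLocalProp P)
    (hL : LocallyClosedCond P) :
    ∃ (Z : Scheme.{u}) (ι : Z ⟶ S), IsClosedImmersion ι ∧ LocallyOfFinitePresentation ι ∧
      ∀ (T : Scheme.{u}) (u : T ⟶ S), (∃ u' : T ⟶ Z, u' ≫ ι = u) ↔ P u := by
  let I : S.IdealSheafData :=
    { ideal := fun U => killI P U.2.fromSpec
      map_ideal_basicOpen := fun U c => by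
        letI := (S.presheaf.map (homOfLE (S.basicOpen_le c)).op).hom.toAlgebra
        haveI : IsLocalization.Away c Γ(S, S.basicOpen c) := U.2.isLocalization_basicOpen c
        exact killI_map hP hL (A' := Γ(S, S.basicOpen c)) c (U.2.basicOpen c).fromSpec
          (U.2.map_fromSpec (U.2.basicOpen c) (homOfLE (S.basicOpen_le c)).op) }
  have hι : P I.subschemeι := by
    refine hP.cover _ fun z => ?_
    obtain ⟨y, hy⟩ := I.subschemeCover.covers z
    refine ⟨_, I.subschemeCover.f (I.subschemeCover.idx z), inferInstance, ⟨y, hy⟩, ?_⟩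
    rw [Scheme.IdealSheafData.subschemeCover_map_subschemeι, Scheme.IdealSheafData.glueDataObjι, Category.assoc]
    exact isTest_mk (g := (I.subschemeCover.idx z : S.affineOpens).2.fromSpec) hP hL
  have hiff : ∀ (T : Scheme.{u}) (u : T ⟶ S), (∃ u' : T ⟶ I.subscheme, u' ≫ I.subschemeι = u) ↔ P u := by
    refine fun T u => ⟨?_, fun h => ?_⟩
    · rintro ⟨u', rfl⟩
      exact hP.comp u' _ hι
    refine ⟨IsClosedImmersion.lift I.subschemeι u ?_, IsClosedImmersion.lift_fac _ _ _⟩
    rw [Scheme.IdealSheafData.ker_subschemeι]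
    refine Scheme.IdealSheafData.le_ofIdeals_iff.2 fun U a ha => ?_
    rw [RingHom.mem_ker]
    refine T.IsSheaf.section_ext fun t ht => ?_
    obtain ⟨_, ⟨W, hW, rfl⟩, htW, hWU⟩ :=
      T.isBasis_affineOpens.exists_subset_of_mem_open ht (u ⁻¹ᵁ U.1).isOpen
    refine ⟨W, hWU, htW, ?_⟩
    rw [map_zero]
    have hN : IsTest P U.2.fromSpec (u.appLE U.1 W hWU).hom := by
      show P (Spec.map (u.appLE U.1 W hWU) ≫ U.2.fromSpec)
      rw [IsAffineOpen.SpecMap_appLE_fromSpec u U.2 hW]
      exact hP.comp _ _ h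
    exact map_eq_zero hN ha
  refine ⟨_, I.subschemeι, inferInstance, ?_, hiff⟩
  -- over a chart it is the zero locus of a finitely generated ideal
  have hL' := hL
  choose A i1 g i2 J hJfg hxg hJ hkill using hL'
  let 𝒰 : S.OpenCover := S.openCoverOfIsOpenCover (fun x => (@Scheme.Hom.opensRange _ _ (g x) (i2 x)))
    (top_le_iff.1 fun x _ => Opens.mem_iSup.2 ⟨x, hxg x⟩)
  refine (IsZariskiLocalAtTarget.iff_of_openCover (P := @LocallyOfFinitePresentation) 𝒰).2 fun x => ?_
  haveI := i2 x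
  let V := (g x).opensRange
  show LocallyOfFinitePresentation (pullback.snd I.subschemeι V.ι)
  let e : Spec (CommRingCat.of (A x)) ≅ (V : Scheme.{u}) := (g x).isoOpensRange
  have he : e.hom ≫ V.ι = g x := Scheme.Hom.isoOpensRange_hom_ι (g x)
  let qc : Spec (CommRingCat.of (A x ⧸ J x)) ⟶ Spec (CommRingCat.of (A x)) :=
    Spec.map (CommRingCat.ofHom (Ideal.Quotient.mk (J x)))
  haveI : IsClosedImmersion qc := IsClosedImmersion.spec_of_surjective _ Ideal.Quotient.mk_surjective
  haveI : LocallyOfFinitePresentation qc := by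
    rw [HasRingHomProperty.Spec_iff (P := @LocallyOfFinitePresentation)]
    exact RingHom.FinitePresentation.of_surjective _ Ideal.Quotient.mk_surjective
      (by rw [CommRingCat.hom_ofHom, Ideal.mk_ker]; exact hJfg x)
  let Y := pullback I.subschemeι V.ι
  let v : Y ⟶ (V : Scheme.{u}) := pullback.snd I.subschemeι V.ι
  let w : Y ⟶ Spec (CommRingCat.of (A x)) := v ≫ e.inv
  have hw : w ≫ g x = pullback.fst I.subschemeι V.ι ≫ I.subschemeι := by
    rw [← he, Category.assoc, e.inv_hom_id_assoc]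
    exact pullback.condition.symm
  have hPw : P (w ≫ g x) := hw ▸ hP.comp _ _ hι
  let ψ : A x →+* Γ(Y, ⊤) := ((Scheme.ΓSpecIso (CommRingCat.of (A x))).inv ≫ w.appTop).hom
  have hk : ∀ a ∈ J x, ψ a = 0 := fun a ha => appTop_eq_zero hP (hkill x) w hPw ha
  let a : Y ⟶ Spec (CommRingCat.of (A x ⧸ J x)) :=
    Y.toSpecΓ ≫ Spec.map (CommRingCat.ofHom (Ideal.Quotient.lift (J x) ψ hk))
  have ha : a ≫ qc = w := by
    rw [Category.assoc, ← Spec.map_comp]
    have hcomp : CommRingCat.ofHom (Ideal.Quotient.mk (J x)) ≫ CommRingCat.ofHom (Ideal.Quotient.lift (J x) ψ hk) =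
        (Scheme.ΓSpecIso (CommRingCat.of (A x))).inv ≫ w.appTop := CommRingCat.hom_ext (RingHom.ext fun _ => rfl)
    rw [hcomp, Spec.map_comp, ← Scheme.toSpecΓ_naturality_assoc, ← Scheme.isoSpec_Spec_inv]
    exact (congrArg (w ≫ ·) (Scheme.isoSpec _).hom_inv_id).trans (Category.comp_id w)
  obtain ⟨b, hb⟩ := (hiff _ (qc ≫ g x)).2 (hJ x)
  let b' : Spec (CommRingCat.of (A x ⧸ J x)) ⟶ Y :=
    pullback.lift b (qc ≫ e.hom) (by rw [hb, Category.assoc, he])
  have hb' : b' ≫ v = qc ≫ e.hom := pullback.lift_snd _ _ _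
  have hv : v = w ≫ e.hom := by rw [Category.assoc, e.inv_hom_id, Category.comp_id]
  let i : Y ≅ Spec (CommRingCat.of (A x ⧸ J x)) :=
    { hom := a
      inv := b'
      hom_inv_id := by rw [← cancel_mono v, Category.assoc, hb', ← Category.assoc, ha, ← hv, Category.id_comp]
      inv_hom_id := by
        rw [← cancel_mono qc, Category.assoc, ha, ← Category.assoc, hb', Category.assoc, e.hom_inv_id,
          Category.comp_id, Category.id_comp] }
  have hev : v = (i.hom ≫ qc) ≫ e.hom := hv.trans (congrArg (· ≫ e.hom) ha.symm)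
  show LocallyOfFinitePresentation v
  rw [hev]
  haveI : IsIso i.hom := Iso.isIso_hom i
  haveI : IsIso e.hom := Iso.isIso_hom e
  exact (MorphismProperty.cancel_right_of_respectsIso @LocallyOfFinitePresentation (i.hom ≫ qc) e.hom).2
    ((MorphismProperty.cancel_left_of_respectsIso @LocallyOfFinitePresentation i.hom qc).2 ‹_›)

end Groth.Agent.DescLocus.Glue
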