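import Groth.Agent.DescLocus.Chart
import Groth.Agent.DescLocus.Glue

/-!
# The descent locus of a finite locally free module is a locally closed subscheme
-/

set_option autoImplicit false
attribute [-instance] CategoryTheory.catToReflQuiver
set_option linter.style.haveILetI false
set_option backward.isDefEq.respectTransparency false
set_option backward.isDefEq.respectTransparency.types false
set_option maxHeartbeats 2000000

universe u

open CategoryTheory CategoryTheory.Limits AlgebraicGeometry TopologicalSpace Opposite TensorProduct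

noncomputable section

namespace Groth.Agent.DescLocus

open Groth.Agent.H23.Frame

variable {X S : Scheme.{u}}

theorem freeP_chart_iff (f : X ⟶ S) (E : X.Modules) {T W : Scheme.{u}} (g : T ⟶ S) (h : W ⟶ T) :
    FreeP ((Scheme.Modules.pullback (pullback.fst f g)).obj E) (pullback.fst (pullback.snd f g) h) ↔
      FreeP E (pullback.fst f (h ≫ g)) := by
  rw [freeP_pullback_iff]
  exact ⟨fun hh => hh.of_factor (pullbackLeftPullbackSndIso f g h).inv
      (by erw [pullbackLeftPullbackSndIso_inv_fst]),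
    fun hh => hh.of_factor (pullbackLeftPullbackSndIso f g h).hom (pullbackLeftPullbackSndIso_hom_fst f g h)⟩

theorem hasΓ_chart (f : X ⟶ S) (hO : ∀ (T : Scheme.{u}) (g : T ⟶ S) (U : T.Opens), IsIso ((pullback.snd f g).app U))
    {A : Type u} [CommRing A] (g : Spec (CommRingCat.of A) ⟶ S) : HasΓ (pullback.snd f g) := by
  intro B _ _ X' φ pB hpb
  have h := hpb.paste_horiz (IsPullback.of_hasPullback f g)
  rw [← h.isoPullback_hom_snd, Scheme.Hom.comp_appTop]
  haveI := hO _ (Spec.map (CommRingCat.ofHom (algebraMap A B)) ≫ g) ⊤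
  haveI : IsIso (h.isoPullback.hom.app ⊤) := inferInstance
  exact (@ConcreteCategory.bijective_of_isIso _ _ _ _ _ _ _ _ h.isoPullback.hom.appTop this).comp
    (ConcreteCategory.bijective_of_isIso _)

/-- The points over which the module is free after some extension of the field. -/
def locus (f : X ⟶ S) (E : X.Modules) : Set S :=
  {s | ∃ (K : Type u) (_ : Field K) (k : Spec (CommRingCat.of K) ⟶ S),
    k (IsLocalRing.closedPoint K) = s ∧ FreeP E (pullback.fst f k)}

theorem mem_locus {f : X ⟶ S} {E : X.Modules} {T : Scheme.{u}} {u : T ⟶ S} (h : LocFreeP f E u) (t : T) :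
    u t ∈ locus f E := by
  obtain ⟨V, hV, hF⟩ := h t
  have hr : Set.range (T.fromSpecResidueField t) ⊆ Set.range V.ι := by
    rw [Scheme.range_fromSpecResidueField, Scheme.Opens.range_ι]
    exact Set.singleton_subset_iff.2 hV
  exact ⟨T.residueField t, inferInstance, T.fromSpecResidueField t ≫ u,
    congrArg u (T.fromSpecResidueField_apply t _),
    hF.base (IsOpenImmersion.lift V.ι (T.fromSpecResidueField t) hr) (by rw [IsOpenImmersion.lift_fac_assoc])⟩

/-- Near a point of the locus, it is cut out by a finitely generated ideal. -/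
theorem exists_chart (f : X ⟶ S) [Flat f] [IsProper f] [LocallyOfFinitePresentation f]
    (hO : ∀ (T : Scheme.{u}) (g : T ⟶ S) (U : T.Opens), IsIso ((pullback.snd f g).app U))
    (E : X.Modules) (hE : FlatMod.IsFinLocFree E) {s : S} (hs : s ∈ locus f E) :
    ∃ (A : Type u) (_ : CommRing A) (g : Spec (CommRingCat.of A) ⟶ S) (_ : IsOpenImmersion g) (J : Ideal A),
      J.FG ∧ s ∈ Set.range g ∧ LocFreeP f E (Spec.map (CommRingCat.ofHom (Ideal.Quotient.mk J)) ≫ g) ∧
        ∀ (B : Type u) [CommRing B] (φ : A →+* B), LocFreeP f E (Spec.map (CommRingCat.ofHom φ) ≫ g) →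
          J ≤ RingHom.ker φ := by
  obtain ⟨K, _, k, hks, hK⟩ := hs
  have hq := QCoh.isQCoh_of_isFinLocFree hE
  -- the rank
  obtain ⟨n, ⟨i⟩⟩ := hK
  have hK : FreeP E (pullback.fst f k) := ⟨n, ⟨i⟩⟩
  obtain ⟨e, he⟩ := exists_globalFrame i
  let O : Set X := {x | ∃ (U : X.Opens) (e : Fin n → Γ(E, U)), x ∈ U ∧ IsFrame E e}
  have hOo : IsOpen O := by
    refine isOpen_iff_forall_mem_open.2 ?_
    rintro x ⟨U, e', hx, he'⟩
    exact ⟨(U : Set X), fun w hw => ⟨U, e', hw, he'⟩, U.2, hx⟩
  let V : S.Opens := ⟨(f '' Oᶜ)ᶜ, (f.isClosedMap _ hOo.isClosed_compl).isOpen_compl⟩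
  have hsV : s ∈ V := by
    rintro ⟨x, hx, hxs⟩
    obtain ⟨z, hz, -⟩ := Scheme.Pullback.exists_preimage_pullback (f := f) (g := k) x (IsLocalRing.closedPoint K)
      (hxs.trans hks.symm)
    obtain ⟨U, m, e', hxU, he'⟩ := RGLib.PullbackFrame.exists_frame_nhd hE x
    obtain rfl : n = m := eq_of_frames he (isFrame_pullElt _ hq he') z trivial (show pullback.fst f k z ∈ U by rwa [hz])
    exact hx ⟨U, e', hxU, he'⟩
  obtain ⟨_, ⟨W, hW, rfl⟩, hsW, hWV⟩ := S.isBasis_affineOpens.exists_subset_of_mem_open hsV V.2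
  let A : Type u := Γ(S, W)
  let g : Spec (CommRingCat.of A) ⟶ S := hW.fromSpec
  haveI : IsOpenImmersion g := hW.isOpenImmersion_fromSpec
  have hgr : Set.range g = (W : Set S) := hW.range_fromSpec
  have hkr : Set.range k ⊆ Set.range g := by
    rintro _ ⟨w, rfl⟩
    rw [hgr, Subsingleton.elim w (IsLocalRing.closedPoint K), hks]
    exact hsW
  let φK : CommRingCat.of A ⟶ CommRingCat.of K := Spec.preimage (IsOpenImmersion.lift g k hkr)
  have hφK : Spec.map φK ≫ g = k := by rw [Spec.map_preimage, IsOpenImmersion.lift_fac]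
  letI : Algebra A K := φK.hom.toAlgebra
  let π := pullback.snd f g
  let E' := (Scheme.Modules.pullback (pullback.fst f g)).obj E
  have hE' : Coh.IsQCoh E' := QCoh.isQCoh_pullback _ hq
  have hrk : HasRank E' n := fun x => by
    obtain ⟨U, e', hxU, he'⟩ : pullback.fst f g x ∈ O := by
      by_contra hn
      have hmem : g (π x) ∈ V := hWV (hgr.subset ⟨π x, rfl⟩)
      refine hmem ⟨pullback.fst f g x, hn, ?_⟩
      rw [← Scheme.Hom.comp_apply, pullback.condition, Scheme.Hom.comp_apply]
    exact ⟨_, _, hxU, isFrame_pullElt (pullback.fst f g) hq he'⟩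
  have hKA : FreeP E' (pullback.fst π (Spec.map (CommRingCat.ofHom (algebraMap A K)))) := by
    refine (freeP_chart_iff f E g _).2 ?_
    rw [show Spec.map (CommRingCat.ofHom (algebraMap A K)) ≫ g = k from hφK]
    exact hK
  obtain ⟨R⟩ := exists_secRep π E' (by
    intro x
    obtain ⟨U, e', hxU, he'⟩ := hrk x
    exact ⟨U, n, hxU, exists_iso_of_frame e' he'⟩)
  have hΓ : HasΓ π := hasΓ_chart f hO g
  obtain ⟨g₀, q, hg₀, hspan⟩ := exists_generators R hΓ hE' hrk hKA
  -- invert the element
  let A' := Localization.Away g₀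
  let sA := Spec.map (CommRingCat.ofHom (algebraMap A A'))
  haveI : IsOpenImmersion sA := IsOpenImmersion.of_isLocalization g₀
  let π' := pullback.snd π sA
  let E'' := (Scheme.Modules.pullback (pullback.fst π sA)).obj E'
  obtain ⟨R', ⟨ι⟩⟩ := R.baseChange (π' := π') (pullback.fst π sA) (IsPullback.of_hasPullback π sA) (Iso.refl E'')
  let ιK : A' →+* K := IsLocalization.Away.lift g₀ (g := algebraMap A K) (isUnit_iff_ne_zero.2 hg₀)
  letI : Algebra A' K := ιK.toAlgebra
  have hιK : (algebraMap A' K).comp (algebraMap A A') = algebraMap A K := IsLocalization.Away.lift_comp g₀ _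
  let q' : Fin n → R'.Q := fun j => ι.inv.hom (1 ⊗ₜ[A] q j)
  have hspan' : Submodule.span A' (Set.range q') = ⊤ := by
    let T : Submodule A' (A' ⊗[A] R.Q) := Submodule.span A' (Set.range fun j => (1 : A') ⊗ₜ[A] q j)
    have hT : ∀ z : A' ⊗[A] R.Q, z ∈ T := fun z => by
      induction z using TensorProduct.induction_on with
      | zero => exact zero_mem _
      | add a b ha hb => exact add_mem ha hb
      | tmul a x =>
        obtain ⟨c, hc⟩ := (Submodule.mem_span_range_iff_exists_fun A).1 (hspan x)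
        obtain ⟨u, hu⟩ := IsLocalization.Away.algebraMap_isUnit g₀ (S := A')
        have h1 : a ⊗ₜ[A] x = (a * (u⁻¹ : Units A').1) • ((1 : A') ⊗ₜ[A] (g₀ • x)) := by
          rw [TensorProduct.tmul_smul, TensorProduct.smul_tmul', TensorProduct.smul_tmul', smul_eq_mul,
            Algebra.smul_def, mul_one, ← hu, mul_assoc, Units.inv_mul, mul_one]
        rw [h1, ← hc, TensorProduct.tmul_sum]
        refine Submodule.smul_mem _ _ (Submodule.sum_mem _ fun j _ => ?_)
        rw [TensorProduct.tmul_smul, ← algebraMap_smul A' (c j)]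
        exact Submodule.smul_mem _ _ (Submodule.subset_span ⟨j, rfl⟩)
    refine eq_top_iff.2 fun z _ => ?_
    have hz : z = ι.inv.hom (ι.hom.hom z) := (ι.hom_inv_id_apply z).symm
    rw [hz]
    have := Submodule.mem_map_of_mem (f := ι.inv.hom) (hT (ι.hom.hom z))
    rw [Submodule.map_span, ← Set.range_comp] at this
    exact this
  have hrk' : HasRank E'' n := fun x => by
    obtain ⟨U, e', hxU, he'⟩ := hrk (pullback.fst π sA x)
    exact ⟨_, _, hxU, isFrame_pullElt (pullback.fst π sA) hE' he'⟩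
  have hΓ' : HasΓ π' := by
    intro B _ _ X' φ pB hpb
    letI := algThrough A A' B
    exact hΓ B X' (φ ≫ pullback.fst π sA) pB
      (specMap_comp_through A A' B ▸ hpb.paste_horiz (IsPullback.of_hasPullback π sA))
  have hiff : ∀ {Y : Scheme.{u}} (h : Y ⟶ Spec (CommRingCat.of A')),
      FreeP E'' (pullback.fst π' h) ↔ FreeP E (pullback.fst f (h ≫ sA ≫ g)) := fun {Y} h =>
    ((freeP_chart_iff π E' sA h).trans (freeP_chart_iff f E g _)).trans (by rw [Category.assoc])
  have hKA' : FreeP E'' (pullback.fst π' (Spec.map (CommRingCat.ofHom (algebraMap A' K)))) := by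
    rw [hiff, ← Category.assoc, ← Spec.map_comp, ← CommRingCat.ofHom_comp, hιK,
      show Spec.map (CommRingCat.ofHom (algebraMap A K)) ≫ g = k from hφK]
    exact hK
  obtain ⟨J, hJ, hkill, g₁, hg₁, hfree⟩ := exists_ideal R' hΓ'
    (fun B _ _ => (pullback.snd π' _).isClosedMap) (QCoh.isQCoh_pullback _ hE') hrk' hspan' hKA'
  let A'' := Localization.Away g₁
  let sA' := Spec.map (CommRingCat.ofHom (algebraMap A' A''))
  haveI : IsOpenImmersion sA' := IsOpenImmersion.of_isLocalization g₁
  let ιK' : A'' →+* K := IsLocalization.Away.lift g₁ (g := algebraMap A' K) (isUnit_iff_ne_zero.2 hg₁)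
  have hιK' : ιK'.comp (algebraMap A' A'') = algebraMap A' K := IsLocalization.Away.lift_comp g₁ _
  refine ⟨A'', inferInstance, sA' ≫ sA ≫ g, inferInstance, J.map (algebraMap A' A''), hJ.map _,
    ⟨Spec.map (CommRingCat.ofHom ιK') (IsLocalRing.closedPoint K), ?_⟩, ?_, ?_⟩
  · rw [← Scheme.Hom.comp_apply, ← Category.assoc, ← Spec.map_comp, ← CommRingCat.ofHom_comp, hιK', ← Category.assoc,
      ← Spec.map_comp, ← CommRingCat.ofHom_comp, hιK, show Spec.map (CommRingCat.ofHom (algebraMap A K)) ≫ g = k from hφK]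
    exact hks
  · refine locFreeP_of_freeP ?_
    let q'' := Ideal.Quotient.mk (J.map (algebraMap A' A''))
    have h := (hiff _).1 (hfree (A'' ⧸ J.map (algebraMap A' A''))
      ((IsLocalization.Away.algebraMap_isUnit g₁).map q'') fun a ha =>
        RingHom.mem_ker.2 (Ideal.Quotient.eq_zero_iff_mem.2 (Ideal.mem_map_of_mem _ ha)))
    rw [show Spec.map (CommRingCat.ofHom (algebraMap A' (A'' ⧸ J.map (algebraMap A' A'')))) =
      Spec.map (CommRingCat.ofHom q'') ≫ sA' by rw [← Spec.map_comp]; rfl, Category.assoc] at h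
    exact h
  · intro B _ φ hB
    refine Ideal.map_le_iff_le_comap.2 fun a ha => RingHom.mem_ker.2 (Glue.eq_zero_of_locally _ fun p => ?_)
    obtain ⟨b, hb, hF⟩ := hB.exists_basicOpen p
    refine ⟨b, hb, ?_⟩
    letI : Algebra A' (Localization.Away b) :=
      ((algebraMap B (Localization.Away b)).comp (φ.comp (algebraMap A' A''))).toAlgebra
    refine RingHom.mem_ker.1 (hkill (Localization.Away b) ?_ ha)
    rw [hiff]
    rw [show Spec.map (CommRingCat.ofHom (algebraMap A' (Localization.Away b))) =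
      Spec.map (CommRingCat.ofHom (algebraMap B (Localization.Away b))) ≫ Spec.map (CommRingCat.ofHom φ) ≫ sA' by
        rw [← Spec.map_comp, ← Spec.map_comp]; rfl]
    exact hF.base (𝟙 _) (by simp only [Category.id_comp, Category.assoc])

/-- The descent locus is a locally closed subscheme of finite presentation. -/
theorem exists_descentLocus (f : X ⟶ S) [Flat f] [IsProper f] [LocallyOfFinitePresentation f]
    (hO : ∀ (T : Scheme.{u}) (g : T ⟶ S) (U : T.Opens), IsIso ((pullback.snd f g).app U))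
    (E : X.Modules) (hE : FlatMod.IsFinLocFree E) :
    ∃ (Z : Scheme.{u}) (j : Z ⟶ S), IsImmersion j ∧ LocallyOfFinitePresentation j ∧
      ∀ (T : Scheme.{u}) (g : T ⟶ S), (∃ g' : T ⟶ Z, g' ≫ j = g) ↔ LocFreeP f E g := by
  choose A i1 g i2 J hJ hsg hfree hkill using fun s : locus f E => exists_chart f hO E hE s.2
  let U : S.Opens := ⨆ s, @Scheme.Hom.opensRange _ _ (g s) (i2 s)
  let P : ∀ ⦃T : Scheme.{u}⦄, (T ⟶ (U : Scheme.{u})) → Prop := fun _ u => LocFreeP f E (u ≫ U.ι)
  have hP : Glue.IsLocalProp P :=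
    ⟨fun T T' v u h => show LocFreeP f E ((v ≫ u) ≫ U.ι) by rw [Category.assoc]; exact h.comp v,
      fun T u h => locFreeP_of_cover fun t => by
        obtain ⟨T', j, hj, ht, hu⟩ := h t
        exact ⟨T', j, hj, ht, by rw [← Category.assoc]; exact hu⟩⟩
  have hL : Glue.LocallyClosedCond P := fun x => by
    obtain ⟨s, hs⟩ := Opens.mem_iSup.1 (show x.1 ∈ U from x.2)
    haveI := i2 s
    have hr : Set.range (g s) ⊆ Set.range U.ι := by
      rw [Scheme.Opens.range_ι]
      exact fun y hy => Opens.mem_iSup.2 ⟨s, hy⟩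
    let gs := IsOpenImmersion.lift U.ι (g s) hr
    have hgs : gs ≫ U.ι = g s := IsOpenImmersion.lift_fac _ _ _
    haveI : IsOpenImmersion (gs ≫ U.ι) := hgs.symm ▸ i2 s
    refine ⟨A s, i1 s, gs, IsOpenImmersion.of_comp gs U.ι, J s, hJ s, ?_, ?_, fun B _ φ h => hkill s B φ ?_⟩
    · obtain ⟨w, hw⟩ := hs
      refine ⟨w, U.ι.isOpenEmbedding.injective ?_⟩
      rw [← Scheme.Hom.comp_apply, hgs]
      exact hw
    · show LocFreeP f E ((_ ≫ gs) ≫ U.ι)
      rw [Category.assoc, hgs]
      exact hfree s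
    · have h' : LocFreeP f E ((Spec.map (CommRingCat.ofHom φ) ≫ gs) ≫ U.ι) := h
      rwa [Category.assoc, hgs] at h'
  obtain ⟨Z, ι, hι, hιfp, hiff⟩ := Glue.exists_closedImmersion P hP hL
  refine ⟨Z, ι ≫ U.ι, inferInstance, inferInstance, fun T u => ⟨?_, fun h => ?_⟩⟩
  · rintro ⟨u', rfl⟩
    rw [← Category.assoc]
    exact (hiff T (u' ≫ ι)).1 ⟨u', rfl⟩
  · have hr : Set.range u ⊆ Set.range U.ι := by
      rw [Scheme.Opens.range_ι]
      rintro _ ⟨t, rfl⟩
      exact Opens.mem_iSup.2 ⟨⟨u t, mem_locus h t⟩, hsg ⟨u t, mem_locus h t⟩⟩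
    let u₁ := IsOpenImmersion.lift U.ι u hr
    have hu₁ : u₁ ≫ U.ι = u := IsOpenImmersion.lift_fac _ _ _
    obtain ⟨u', hu'⟩ := (hiff T u₁).2 (show LocFreeP f E (u₁ ≫ U.ι) by rw [hu₁]; exact h)
    exact ⟨u', by rw [← Category.assoc, hu', hu₁]⟩

end Groth.Agent.DescLocus
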