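import Groth.Agent.SeesawGen.Rep
import Groth.Agent.H23.EndInv

/-!
# Corepresentation of sections, naturally in the algebra, over an arbitrary base
-/

set_option autoImplicit false
attribute [-instance] CategoryTheory.catToReflQuiver
set_option linter.style.haveILetI false
set_option backward.isDefEq.respectTransparency false
set_option backward.isDefEq.respectTransparency.types false
set_option maxHeartbeats 1000000

universe u

open CategoryTheory CategoryTheory.Limits AlgebraicGeometry TopologicalSpace Opposite TensorProduct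

noncomputable section

namespace Groth.Agent.DescLocus

open Groth.Agent.SeesawGen (isoΓ liftEquiv)

/-- A finitely presented module corepresenting the sections after all changes of the base ring. -/
structure SecRep {A : Type u} [CommRing A] {X : Scheme.{u}} (π : X ⟶ Spec (CommRingCat.of A)) (E : X.Modules) where
  /-- the module -/
  Q : ModuleCat.{u} A
  fp : Module.FinitePresentation A Q
  /-- the identifications -/
  ε : ∀ (B : Type u) [CommRing B] [Algebra A B] (X' : Scheme.{u}) (φ : X' ⟶ X) (pB : X' ⟶ Spec (CommRingCat.of B)),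
    IsPullback φ pB π (Spec.map (CommRingCat.ofHom (algebraMap A B))) →
      ((Q →ₗ[A] B) ≃+ Γ((Scheme.Modules.pullback φ).obj E, ⊤))
  lin : ∀ (B : Type u) [CommRing B] [Algebra A B] (X' : Scheme.{u}) (φ : X' ⟶ X) (pB : X' ⟶ Spec (CommRingCat.of B))
    (hpb) (b : B) (f : Q →ₗ[A] B),
      ε B X' φ pB hpb (LinearMap.mulLeft A b ∘ₗ f) = (show Γ(X', ⊤) from Coh.toGlobal pB b) • ε B X' φ pB hpb f
  nat : ∀ (B B' : Type u) [CommRing B] [Algebra A B] [CommRing B'] [Algebra A B'] (g : B →ₐ[A] B')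
    (X' X'' : Scheme.{u}) (t : X'' ⟶ X') (φ : X' ⟶ X) (φ' : X'' ⟶ X) (pB : X' ⟶ Spec (CommRingCat.of B))
    (pB' : X'' ⟶ Spec (CommRingCat.of B')) (hpb) (hpb'), t ≫ φ = φ' →
      t ≫ pB = pB' ≫ Spec.map (CommRingCat.ofHom g.toRingHom) →
        ∃ i : (Scheme.Modules.pullback t).obj ((Scheme.Modules.pullback φ).obj E) ≅ (Scheme.Modules.pullback φ').obj E,
          ∀ f : Q →ₗ[A] B,
            ε B' X'' φ' pB' hpb' (g.toLinearMap ∘ₗ f) = i.hom.app ⊤ (InvX.pullElt t (ε B X' φ pB hpb f))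

theorem map_pullElt {X Y : Scheme.{u}} (r : X ⟶ Y) {L M : Y.Modules} (v : L ⟶ M) {U : Y.Opens} (e : Γ(L, U)) :
    ((Scheme.Modules.pullback r).map v).app (r ⁻¹ᵁ U) (InvX.pullElt r e) = InvX.pullElt r (v.app U e) :=
  (congrArg (fun φ => φ.app U e) ((Scheme.Modules.pullbackPushforwardAdjunction r).unit.naturality v)).symm

/-- The algebra structure through the base change. -/
abbrev algThrough (A A' B : Type u) [CommRing A] [CommRing A'] [Algebra A A'] [CommRing B] [Algebra A' B] :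
    Algebra A B :=
  ((algebraMap A' B).comp (algebraMap A A')).toAlgebra

theorem specMap_comp_through (A A' B : Type u) [CommRing A] [CommRing A'] [Algebra A A'] [CommRing B] [Algebra A' B] :
    Spec.map (CommRingCat.ofHom (algebraMap A' B)) ≫ Spec.map (CommRingCat.ofHom (algebraMap A A')) =
      Spec.map (CommRingCat.ofHom (@algebraMap A B _ _ (algThrough A A' B))) := by
  rw [← Spec.map_comp]
  rfl

/-- Change of the base ring. -/
theorem SecRep.baseChange {A A' : Type u} [CommRing A] [CommRing A'] [Algebra A A'] {X X' : Scheme.{u}}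
    {π : X ⟶ Spec (CommRingCat.of A)} {E : X.Modules} (R : SecRep π E) {π' : X' ⟶ Spec (CommRingCat.of A')}
    (g : X' ⟶ X) (hsq : IsPullback g π' π (Spec.map (CommRingCat.ofHom (algebraMap A A')))) {E' : X'.Modules}
    (ψ : (Scheme.Modules.pullback g).obj E ≅ E') :
    ∃ R' : SecRep π' E', Nonempty (R'.Q ≅ ModuleCat.of A' (A' ⊗[A] R.Q)) := by
  haveI := R.fp
  let j : ∀ {Z : Scheme.{u}} (φ : Z ⟶ X'),
      (Scheme.Modules.pullback (φ ≫ g)).obj E ≅ (Scheme.Modules.pullback φ).obj E' := fun φ =>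
    ((Scheme.Modules.pullbackComp φ g).app E).symm ≪≫ (Scheme.Modules.pullback φ).mapIso ψ
  let ε' : ∀ (B : Type u) [CommRing B] [Algebra A' B] (Z : Scheme.{u}) (φ : Z ⟶ X') (pB : Z ⟶ Spec (CommRingCat.of B)),
    IsPullback φ pB π' (Spec.map (CommRingCat.ofHom (algebraMap A' B))) →
      ((ModuleCat.of A' (A' ⊗[A] R.Q) →ₗ[A'] B) ≃+ Γ((Scheme.Modules.pullback φ).obj E', ⊤)) :=
    fun B _ _ Z φ pB hpb =>
      letI := algThrough A A' B
      haveI : IsScalarTower A A' B := IsScalarTower.of_algebraMap_eq fun _ => rfl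
      ((liftEquiv A A' B R.Q).trans (R.ε B Z (φ ≫ g) pB (specMap_comp_through A A' B ▸ hpb.paste_horiz hsq))).trans
        (isoΓ (j φ))
  refine ⟨{
    Q := ModuleCat.of A' (A' ⊗[A] R.Q)
    fp := inferInstanceAs (Module.FinitePresentation A' (A' ⊗[A] R.Q))
    ε := ε'
    lin := fun B _ _ Z φ pB hpb b f => ?_
    nat := fun B B' _ _ _ _ gB Z Z' t φ φ' pB pB' hpb hpb' hφ hw => ?_ }, ⟨Iso.refl _⟩⟩
  · letI := algThrough A A' B
    haveI : IsScalarTower A A' B := IsScalarTower.of_algebraMap_eq fun _ => rfl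
    show (j φ).hom.app ⊤ (R.ε B Z (φ ≫ g) pB _ (liftEquiv A A' B R.Q (LinearMap.mulLeft A' b ∘ₗ f))) = _
    rw [show liftEquiv A A' B R.Q (LinearMap.mulLeft A' b ∘ₗ f) = LinearMap.mulLeft A b ∘ₗ liftEquiv A A' B R.Q f
      from rfl, R.lin]
    exact Scheme.Modules.Hom.app_smul _ _ _
  · letI := algThrough A A' B
    haveI : IsScalarTower A A' B := IsScalarTower.of_algebraMap_eq fun _ => rfl
    letI := algThrough A A' B'
    haveI : IsScalarTower A A' B' := IsScalarTower.of_algebraMap_eq fun _ => rfl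
    let gA : B →ₐ[A] B' := gB.restrictScalars A
    obtain ⟨i, hi⟩ := R.nat B B' gA Z Z' t (φ ≫ g) (φ' ≫ g) pB pB'
      (specMap_comp_through A A' B ▸ hpb.paste_horiz hsq) (specMap_comp_through A A' B' ▸ hpb'.paste_horiz hsq)
      (by rw [← Category.assoc, hφ]) hw
    refine ⟨(Scheme.Modules.pullback t).mapIso (j φ).symm ≪≫ i ≪≫ j φ', fun f => ?_⟩
    show (j φ').hom.app ⊤ (R.ε B' Z' (φ' ≫ g) pB' _ (liftEquiv A A' B' R.Q (gB.toLinearMap ∘ₗ f))) =
      (j φ').hom.app ⊤ (i.hom.app ⊤ (((Scheme.Modules.pullback t).map (j φ).inv).app ⊤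
        (InvX.pullElt t ((j φ).hom.app ⊤ (R.ε B Z (φ ≫ g) pB _ (liftEquiv A A' B R.Q f))))))
    rw [show liftEquiv A A' B' R.Q (gB.toLinearMap ∘ₗ f) = gA.toLinearMap ∘ₗ liftEquiv A A' B R.Q f from rfl, hi]
    refine congrArg _ (congrArg _ ?_)
    refine Eq.trans ?_ (map_pullElt t (j φ).inv _).symm
    exact congrArg (InvX.pullElt t) congr(($((j φ).hom_inv_id)).app ⊤ _).symm

/-- A finite locally free module is flat over the base of a flat morphism. -/
theorem isFlatOver_of_isFinLocFree {X S : Scheme.{u}} (f : X ⟶ S) [Flat f] {H : X.Modules}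
    (hH : FlatMod.IsFinLocFree H) : FlatMod.IsFlatOver f H := fun x => by
  show FlatMod.IsFlatOverAt f H x
  unfold FlatMod.IsFlatOverAt
  letI := FlatMod.moduleStalkOver f H x
  letI : Algebra (S.presheaf.stalk (f.base x)) (X.presheaf.stalk x) := (f.stalkMap x).hom.toAlgebra
  haveI : IsScalarTower (S.presheaf.stalk (f.base x)) (X.presheaf.stalk x) (H.presheaf.stalk x) :=
    IsScalarTower.of_algebraMap_smul fun _ _ => rfl
  haveI : Module.Flat (S.presheaf.stalk (f.base x)) (X.presheaf.stalk x) := Flat.stalkMap f x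
  haveI := QCoh.free_stalk_of_isFinLocFree hH x
  exact Module.Flat.trans _ (X.presheaf.stalk x) _

/-- The sections of a finite locally free module on a proper flat family of finite presentation are corepresented. -/
theorem exists_secRep {A : Type u} [CommRing A] {X : Scheme.{u}} (π : X ⟶ Spec (CommRingCat.of A)) [IsProper π]
    [Flat π] [LocallyOfFinitePresentation π] (E : X.Modules) (hE : FlatMod.IsFinLocFree E) :
    Nonempty (SecRep π E) := by
  letI : X.Over (Spec (CommRingCat.of A)) := ⟨π⟩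
  haveI : Flat (X ↘ Spec (CommRingCat.of A)) := ‹Flat π›
  obtain ⟨A₂, X₂, f₂, g₂, G, hA₂, hf₂, hsq, hG, hGfl, ⟨ψ⟩⟩ :=
    CohPullLib.exists_noetherian_model π (QCoh.isQCoh_of_isFinLocFree hE) (QCoh.isFP_of_isFinLocFree hE)
      (isFlatOver_of_isFinLocFree π hE)
  haveI := CohPullLib.isNoetherianRing_of_fg hA₂
  letI : X₂.Over (Spec (CommRingCat.of ↥A₂)) := ⟨f₂⟩
  haveI : IsProper (X₂ ↘ Spec (CommRingCat.of ↥A₂)) := hf₂
  obtain ⟨Q₂, hQ₂, ε, hlin, hnat, -⟩ := SeesawGen.exists_rep_nat (A := ↥A₂) G hG hGfl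
  let R₂ : SecRep f₂ G :=
    { Q := Q₂
      fp := Module.finitePresentation_of_finite _ _
      ε := ε
      lin := hlin
      nat := fun B B' _ _ _ _ g X' X'' t φ φ' pB pB' hpb hpb' hφ hw => by
        subst hφ
        exact ⟨(Scheme.Modules.pullbackComp t φ).app G, fun f => hnat B B' g X' X'' t φ pB pB' hpb hpb' hw f⟩ }
  obtain ⟨R, -⟩ := R₂.baseChange g₂ hsq ψ
  exact ⟨R⟩

end Groth.Agent.DescLocus
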